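import Mathlib.GroupTheory.Perm.Cycle.Type
import Mathlib.GroupTheory.Perm.Sign
import Mathlib.Tactic

/-!
# Signs of some permutations of ten points and orbits of elements of order five
-/

set_option autoImplicit false

namespace Cfsg.Agent.Lib.SimpleBelow1092

open Equiv

variable {α : Type*} [Fintype α] [DecidableEq α]

theorem exists_point_of_cycle_length {σ : Perm α} {n : ℕ} (h : n ∈ σ.cycleType) :
    ∃ d, σ d ≠ d ∧ (σ ^ n) d = d := by
  obtain ⟨c, τ, hσ, hd, hc, hn⟩ := Perm.mem_cycleType_iff.1 h
  obtain ⟨d, hd1, -⟩ := id hc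
  have hτ : τ d = d := (hd d).resolve_left hd1
  refine ⟨d, ?_, ?_⟩
  · rw [hσ, Perm.mul_apply, hτ]; exact hd1
  · have hc' : c ^ n = 1 := by
      rw [← hn, ← hc.orderOf, pow_orderOf_eq_one]
    rw [hσ, hd.commute.mul_pow, hc', one_mul]
    exact Perm.pow_apply_eq_self_of_apply_eq_self hτ n

theorem card_support_of_fix_two {σ : Perm α} {a b : α} (hab : a ≠ b) (ha : σ a = a) (hb : σ b = b)
    (h : ∀ c, c ≠ a → c ≠ b → σ c ≠ c) : σ.support.card = Fintype.card α - 2 := by
  have : σ.support = {a, b}ᶜ := by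
    ext c
    simp only [Perm.mem_support, Finset.mem_compl, Finset.mem_insert, Finset.mem_singleton, not_or]
    refine ⟨fun hc => ⟨?_, ?_⟩, fun hc => h c hc.1 hc.2⟩
    · rintro rfl; exact hc ha
    · rintro rfl; exact hc hb
  rw [this, Finset.card_compl, Finset.card_pair hab]

/-- A permutation of ten points with a transposition and two cycles of length four is odd. -/
theorem sign_two_four (hcard : Fintype.card α = 10) {σ : Perm α} {a b : α} (hab : a ≠ b)
    (ha : σ a = b) (hb : σ b = a) (h4 : σ ^ 4 = 1)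
    (h : ∀ c, c ≠ a → c ≠ b → σ (σ c) ≠ c) : Perm.sign σ = -1 := by
  set σ' := σ * swap a b with hσ'
  have ha' : σ' a = a := by simp [hσ', hb]
  have hb' : σ' b = b := by simp [hσ', ha]
  have hc' : ∀ c, c ≠ a → c ≠ b → σ' c = σ c ∧ σ c ≠ a ∧ σ c ≠ b := by
    intro c hca hcb
    refine ⟨by simp [hσ', swap_apply_of_ne_of_ne hca hcb], fun e => hcb (σ.injective ?_),
      fun e => hca (σ.injective ?_)⟩
    · rw [e, hb]
    · rw [e, ha]
  have hpow : ∀ c, c ≠ a → c ≠ b → ∀ k : ℕ, (σ' ^ k) c = (σ ^ k) c ∧ (σ ^ k) c ≠ a ∧ (σ ^ k) c ≠ b := by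
    intro c hca hcb k
    induction k with
    | zero => exact ⟨rfl, hca, hcb⟩
    | succ k ih =>
      obtain ⟨e, e1, e2⟩ := ih
      obtain ⟨f, f1, f2⟩ := hc' _ e1 e2
      rw [pow_succ', pow_succ', Perm.mul_apply, Perm.mul_apply, e]
      exact ⟨f, f1, f2⟩
  have hfour : σ' ^ 4 = 1 := by
    ext c
    by_cases hca : c = a
    · rw [hca, Perm.pow_apply_eq_self_of_apply_eq_self ha']; rfl
    by_cases hcb : c = b
    · rw [hcb, Perm.pow_apply_eq_self_of_apply_eq_self hb']; rfl
    rw [(hpow c hca hcb 4).1, h4]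
  have hall : ∀ n ∈ σ'.cycleType, n = 4 := by
    intro n hn
    have h1 := (Perm.dvd_of_mem_cycleType hn).trans (orderOf_dvd_of_pow_eq_one hfour)
    have h2 := Perm.two_le_of_mem_cycleType hn
    obtain ⟨d, hd1, hd2⟩ := exists_point_of_cycle_length hn
    by_contra hne
    obtain rfl : n = 2 := by
      have := Nat.le_of_dvd (by norm_num) h1
      interval_cases n <;> omega
    have hda : d ≠ a := fun e => hd1 (by rw [e, ha'])
    have hdb : d ≠ b := fun e => hd1 (by rw [e, hb'])
    rw [(hpow d hda hdb 2).1, sq, Perm.mul_apply] at hd2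
    exact h d hda hdb hd2
  have hs : σ'.cycleType.sum = 8 := by
    rw [Perm.sum_cycleType, card_support_of_fix_two hab ha' hb' (fun c hca hcb e => ?_), hcard]
    rw [(hc' c hca hcb).1] at e
    exact h c hca hcb (by rw [e, e])
  have hr := Multiset.eq_replicate_card.2 hall
  have hcs := hs
  rw [hr, Multiset.sum_replicate, smul_eq_mul] at hcs
  have hsign : Perm.sign σ' = 1 := by
    rw [Perm.sign_of_cycleType, hs, show Multiset.card σ'.cycleType = 2 by omega]; norm_num
  rw [hσ', map_mul, Perm.sign_swap hab] at hsign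
  rcases Int.units_eq_one_or (Perm.sign σ) with e | e
  · rw [e] at hsign; exact absurd hsign (by decide)
  · exact e

/-- A permutation of ten points with a single cycle of length eight is odd. -/
theorem sign_eight (hcard : Fintype.card α = 10) {σ : Perm α} {a b : α} (hab : a ≠ b)
    (ha : σ a = a) (hb : σ b = b) (h8 : σ ^ 8 = 1)
    (h : ∀ c, c ≠ a → c ≠ b → (σ ^ 4) c ≠ c) : Perm.sign σ = -1 := by
  have hmoved : ∀ c, c ≠ a → c ≠ b → σ c ≠ c := fun c hca hcb e =>
    h c hca hcb (Perm.pow_apply_eq_self_of_apply_eq_self e 4)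
  have hall : ∀ n ∈ σ.cycleType, n = 8 := by
    intro n hn
    have h1 := (Perm.dvd_of_mem_cycleType hn).trans (orderOf_dvd_of_pow_eq_one h8)
    have h2 := Perm.two_le_of_mem_cycleType hn
    obtain ⟨d, hd1, hd2⟩ := exists_point_of_cycle_length hn
    by_contra hne
    obtain ⟨r, hr⟩ : n ∣ 4 := by
      have := Nat.le_of_dvd (by norm_num) h1
      interval_cases n <;> omega
    refine h d (fun e => hd1 (by rw [e, ha])) (fun e => hd1 (by rw [e, hb])) ?_
    rw [hr, pow_mul]
    exact Perm.pow_apply_eq_self_of_apply_eq_self hd2 r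
  have hs : σ.cycleType.sum = 8 := by
    rw [Perm.sum_cycleType, card_support_of_fix_two hab ha hb hmoved, hcard]
  have hr := Multiset.eq_replicate_card.2 hall
  have hcs := hs
  rw [hr, Multiset.sum_replicate, smul_eq_mul] at hcs
  rw [Perm.sign_of_cycleType, hs, show Multiset.card σ.cycleType = 1 by omega]; norm_num

omit [Fintype α] [DecidableEq α] in
variable {G : Type*} [Group G] [MulAction G α] in
/-- An element of order dividing five with no fixed point has free orbits. -/
theorem eq_zero_of_pow_five_fix {x : G} (hx : x ^ 5 = 1) (hfree : ∀ c : α, x • c ≠ c) {a : α}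
    {i : ℕ} (hi : i < 5) (h : x ^ i • a = a) : i = 0 := by
  by_contra h0
  refine hfree a ?_
  have hj : ∃ j, i * j % 5 = 1 := by
    interval_cases i <;> first | omega | exact ⟨1, rfl⟩ | exact ⟨3, rfl⟩ | exact ⟨2, rfl⟩ | exact ⟨4, rfl⟩
  obtain ⟨j, hj⟩ := hj
  have hfix : ∀ k : ℕ, (x ^ i) ^ k • a = a := by
    intro k
    induction k with
    | zero => simp
    | succ k ih => rw [pow_succ, mul_smul, h, ih]
  have h1 := hfix j
  rwa [← pow_mul, pow_eq_pow_mod (i * j) hx, hj, pow_one] at h1

variable {G : Type*} [Group G] [MulAction G α]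

/-- The orbit of five points of an element of order five. -/
def five (x : G) (a : α) : Finset α := (Finset.range 5).image fun i => x ^ i • a

theorem mem_five {x : G} {a c : α} : c ∈ five x a ↔ ∃ i < 5, x ^ i • a = c := by
  simp [five]

theorem card_five {x : G} (hx : x ^ 5 = 1) (hfree : ∀ c : α, x • c ≠ c) (a : α) :
    (five x a).card = 5 := by
  rw [five, Finset.card_image_of_injOn, Finset.card_range]
  intro i hi j hj hij
  simp only [Finset.coe_range, Set.mem_Iio] at hi hj
  simp only at hij
  rcases le_total i j with hle | hle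
  · have h1 : x ^ (j - i) • a = a := by
      apply MulAction.injective (x ^ i)
      show x ^ i • x ^ (j - i) • a = x ^ i • a
      rw [← mul_smul, ← pow_add, Nat.add_sub_cancel' hle, hij]
    have := eq_zero_of_pow_five_fix hx hfree (by omega) h1
    omega
  · have h1 : x ^ (i - j) • a = a := by
      apply MulAction.injective (x ^ j)
      show x ^ j • x ^ (i - j) • a = x ^ j • a
      rw [← mul_smul, ← pow_add, Nat.add_sub_cancel' hle, hij]
    have := eq_zero_of_pow_five_fix hx hfree (by omega) h1
    omega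

/-- Two orbits of five points fill ten points. -/
theorem five_cases (hcard : Fintype.card α = 10) {x : G} (hx : x ^ 5 = 1)
    (hfree : ∀ c : α, x • c ≠ c) {a b : α} (hb : b ∉ five x a) (c : α) :
    c ∈ five x a ∨ c ∈ five x b := by
  have hdis : Disjoint (five x a) (five x b) := by
    rw [Finset.disjoint_left]
    intro d hda hdb
    obtain ⟨i, hi, hia⟩ := mem_five.1 hda
    obtain ⟨j, hj, hjb⟩ := mem_five.1 hdb
    refine hb (mem_five.2 ⟨(i + 5 - j) % 5, Nat.mod_lt _ (by norm_num), ?_⟩)
    apply MulAction.injective (x ^ j)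
    show x ^ j • x ^ ((i + 5 - j) % 5) • a = x ^ j • b
    rw [← mul_smul, ← pow_add, pow_eq_pow_mod _ hx, show (j + (i + 5 - j) % 5) % 5 = i by omega,
      hia, hjb]
  have h : five x a ∪ five x b = Finset.univ := by
    apply Finset.eq_univ_of_card
    rw [Finset.card_union_of_disjoint hdis, card_five hx hfree, card_five hx hfree, hcard]
  exact Finset.mem_union.1 (h ▸ Finset.mem_univ c)

/-- An element which commutes with one of order five without fixed points fixes a point only if it
fixes half of the points. -/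
theorem fix_five {x y : G} (hcomm : x * y = y * x) {a c : α} (ha : y • a = a)
    (hc : c ∈ five x a) : y • c = c := by
  obtain ⟨i, -, rfl⟩ := mem_five.1 hc
  rw [← mul_smul, ← (Commute.pow_left (show Commute x y from hcomm) i).eq, mul_smul, ha]

/-- An element of order prime to five commuting with one of order five without fixed points is
trivial on the orbits it preserves. -/
theorem smul_eq_of_mem_five {x y : G} (hx : x ^ 5 = 1) (hfree : ∀ c : α, x • c ≠ c)
    (hcomm : x * y = y * x) {k : ℕ} (hk : y ^ k = 1) (h5 : ¬ 5 ∣ k) {a : α}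
    (ha : y • a ∈ five x a) : y • a = a := by
  obtain ⟨i, hi, hia⟩ := mem_five.1 ha
  have hpow : ∀ n : ℕ, y ^ n • a = x ^ (i * n) • a := by
    intro n
    induction n with
    | zero => simp
    | succ n ih =>
      rw [pow_succ', mul_smul, ih, ← mul_smul,
        ← (Commute.pow_left (show Commute x y from hcomm) (i * n)).eq, mul_smul, ← hia, ← mul_smul,
        ← pow_add, Nat.mul_succ]
  have h1 := hpow k
  rw [hk, one_smul, pow_eq_pow_mod _ hx] at h1
  have h2 := eq_zero_of_pow_five_fix hx hfree (Nat.mod_lt _ (by norm_num)) h1.symm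
  have h3 : 5 ∣ i :=
    ((Nat.Prime.dvd_mul (by norm_num)).1 (Nat.dvd_of_mod_eq_zero h2)).resolve_right h5
  obtain rfl : i = 0 := Nat.eq_zero_of_dvd_of_lt h3 hi
  rw [← hia, pow_zero, one_smul]

end Cfsg.Agent.Lib.SimpleBelow1092
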