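import Cfsg.Agent.Lib.SylowCounting.DegreeKill
import Cfsg.Agent.Lib.SylowCounting.SignTrick
import Cfsg.Agent.Lib.SimpleBelow1092.PermTen
import Cfsg.Agent.Lib.Transfer.Focal
import Mathlib.GroupTheory.Transfer

/-!
# No simple group has order 720

There are 36 Sylow five-subgroups.  A subgroup of index ten makes the group an even, doubly
transitive group on ten points in which a point stabilizer is `3² : Q₈`; transfer to a Sylow
two-subgroup then gives a contradiction.  The other numbers of Sylow three-subgroups lead to such a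
subgroup or to a subgroup of order 45 or 90.
-/

set_option autoImplicit false
set_option linter.unusedSectionVars false
set_option linter.style.haveILetI false

namespace Cfsg.Agent.Lib.SimpleBelow1092.Order720

open Cfsg.Agent.Lib.SylowCounting MulAction
open scoped commutatorElement

variable {G : Type*} [Group G] [Finite G] [IsSimpleGroup G]

theorem not_comm (h : Nat.card G = 720) : ¬ IsMulCommutative G :=
  not_comm_of_not_prime (by rw [h]; norm_num)

theorem index_bound (h : Nat.card G = 720) {H : Subgroup G} (hH : H ≠ ⊤) : 8 ≤ H.index := by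
  by_contra hlt
  have hd := two_card_dvd_factorial (not_comm h) H hH
  have h0 := H.index_ne_zero_of_finite
  rw [h] at hd
  have : H.index < 8 := by omega
  interval_cases H.index <;> revert hd <;> decide

/-- The normalizer of a Sylow five-subgroup has order 20. -/
theorem five_normalizer (h : Nat.card G = 720) [Fact (Nat.Prime 5)] (P : Sylow 5 G) :
    Nat.card (Subgroup.normalizer ((P : Subgroup G) : Set G)) = 20 := by
  have hr := sylow_count_mem_of_excluded 720 5 144 1 (by norm_num) (by norm_num) (by norm_num)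
    (by norm_num) (by norm_num) h {36} (by decide +kernel)
  rw [Finset.mem_singleton, P.card_eq_index_normalizer, ← P.coe_coe] at hr
  have h1 := (Subgroup.normalizer ((P : Subgroup G) : Set G)).index_mul_card
  rw [hr, h] at h1
  omega

/-- A subgroup containing a Sylow five-subgroup has a divisor `d ≡ 1 (mod 5)` with `|H| ∣ 20 d`. -/
theorem exists_five_count (h : Nat.card G = 720) [Fact (Nat.Prime 5)] (H : Subgroup G)
    (h5 : 5 ∣ Nat.card H) : ∃ d, d ∣ Nat.card H ∧ d % 5 = 1 ∧ Nat.card H ∣ 20 * d := by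
  obtain ⟨x, hx⟩ := exists_prime_orderOf_dvd_card' 5 h5
  have hPc : IsPGroup 5 (Subgroup.zpowers (x : G)) :=
    IsPGroup.of_card (n := 1) (by rw [Nat.card_zpowers, Subgroup.orderOf_coe, hx, pow_one])
  obtain ⟨P, hP⟩ := hPc.exists_le_sylow
  have hPcard : Nat.card (P : Subgroup G) = 5 := by
    rw [sylow_card (k := 1) (m := 144) (by rw [h]; norm_num) (by norm_num) P, pow_one]
  have heq : Subgroup.zpowers (x : G) = P := Subgroup.eq_of_le_of_card_ge hP
    (by rw [hPcard, Nat.card_zpowers, Subgroup.orderOf_coe, hx])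
  have hPH : (P : Subgroup G) ≤ H := heq ▸ Subgroup.zpowers_le.2 x.2
  let PH : Sylow 5 H := P.subtype hPH
  have h1 : Nat.card (Subgroup.normalizer ((PH : Subgroup H) : Set H)) ∣ 20 := by
    rw [Sylow.coe_subtype, ← Subgroup.subgroupOf_normalizer_eq hPH, ← five_normalizer h P,
      ← Subgroup.card_map_of_injective (f := H.subtype) H.subtype_injective]
    exact Subgroup.card_dvd_of_le (Subgroup.map_comap_le _ _)
  refine ⟨Nat.card (Sylow 5 H), ?_, sylow_count_mod 5, ?_⟩
  · exact PH.card_dvd_index.trans (Subgroup.index_dvd_card _)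
  · have h2 := (Subgroup.normalizer ((PH : Subgroup H) : Set H)).index_mul_card
    have h3 : Nat.card (Sylow 5 H) = (Subgroup.normalizer ((PH : Subgroup H) : Set H)).index := by
      rw [PH.card_eq_index_normalizer, PH.coe_coe]
    rw [← h2, h3, mul_comm 20]
    exact mul_dvd_mul_left _ h1

theorem card_ne_45 (h : Nat.card G = 720) (H : Subgroup G) : Nat.card H ≠ 45 ∧ Nat.card H ≠ 90 := by
  haveI : Fact (Nat.Prime 5) := ⟨by norm_num⟩
  constructor <;> intro hc <;>
  · obtain ⟨d, hd1, hd2, hd3⟩ := exists_five_count h H (by rw [hc]; norm_num)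
    rw [hc] at hd1 hd3
    have := Nat.le_of_dvd (by norm_num) hd1
    interval_cases d <;> omega

theorem card_stabilizer (h : Nat.card G = 720) {H : Subgroup G} (hi : H.index = 10) (a : G ⧸ H) :
    Nat.card (stabilizer G a) = 72 := by
  obtain ⟨g, rfl⟩ := QuotientGroup.mk_surjective a
  have h1 : Nat.card H = 72 := by
    have := H.index_mul_card
    rw [hi, h] at this; omega
  rw [← h1, ← Subgroup.card_map_of_injective (K := H) (f := (MulAut.conj g).toMonoidHom)
    (MulEquiv.injective _)]
  suffices e : stabilizer G (QuotientGroup.mk g : G ⧸ H) = H.map (MulAut.conj g).toMonoidHom by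
    rw [e]
  apply SetLike.ext
  intro y
  rw [mem_stabilizer_iff, Quotient.smul_mk, smul_eq_mul, QuotientGroup.eq, Subgroup.mem_map_equiv,
    MulAut.conj_symm_apply]
  rw [← H.inv_mem_iff, mul_inv_rev, inv_inv, mul_assoc]

/-- An element acts on the ten cosets as an even permutation. -/
theorem sign_eq_one (h : Nat.card G = 720) {X : Type*} [Fintype X] [DecidableEq X] [MulAction G X]
    (g : G) : Equiv.Perm.sign (toPermHom G X g) = 1 :=
  hom_zmod_trivial (not_comm h) (Equiv.Perm.sign.comp (toPermHom G X)) g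

theorem fix_involution (h : Nat.card G = 720) {H : Subgroup G} (hi : H.index = 10) {z : G}
    (hz : z * z = 1) :
    Nat.card (fixedBy (G ⧸ H) z) = 2 ∨ Nat.card (fixedBy (G ⧸ H) z) = 6 ∨
      Nat.card (fixedBy (G ⧸ H) z) = 10 := by
  have h1 := four_dvd_index_sub_fixedBy (not_comm h) H z hz
  have h2 : Nat.card (fixedBy (G ⧸ H) z) ≤ 10 := hi ▸ Finite.card_subtype_le _
  rw [hi] at h1
  omega

theorem eq_one_of_fix_all (H : Subgroup G) (hH : H ≠ ⊤) {g : G} (hg : ∀ c : G ⧸ H, g • c = c) :
    g = 1 :=
  toPermHom_injective H hH (by rw [map_one]; exact Equiv.ext hg)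

/-- Powers of a point-fixing element fix the point. -/
theorem pow_smul_of_fix {X : Type*} [MulAction G X] {g : G} {c : X} (hg : g • c = c) :
    ∀ k : ℕ, g ^ k • c = c := by
  intro k
  induction k with
  | zero => simp
  | succ k ih => rw [pow_succ', mul_smul, ih, hg]

set_option maxHeartbeats 1000000 in
-- one long proof
/-- In the action on the cosets of a subgroup of index ten some element `u` of order four fixes two
points and moves the others in two cycles of length four, and `u²` fixes no further point. -/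
theorem exists_u (h : Nat.card G = 720) {H : Subgroup G} (hi : H.index = 10) :
    ∃ (u : G) (a b : G ⧸ H), u ^ 4 = 1 ∧ a ≠ b ∧ u • a = a ∧ u • b = b ∧
      ∀ c : G ⧸ H, u • u • c = c → c = a ∨ c = b := by
  classical
  haveI : Fact (Nat.Prime 5) := ⟨by norm_num⟩
  haveI : Fintype (G ⧸ H) := Fintype.ofFinite _
  have hX : Fintype.card (G ⧸ H) = 10 := by rw [← Nat.card_eq_fintype_card, ← hi]; rfl
  have hHt : H ≠ ⊤ := fun e => by rw [e, Subgroup.index_top] at hi; omega
  have hG := not_comm h
  let P : Sylow 5 G := default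
  have hP : Nat.card (P : Subgroup G) = 5 := by
    rw [sylow_card (k := 1) (m := 144) (by rw [h]; norm_num) (by norm_num) P, pow_one]
  set N := Subgroup.normalizer ((P : Subgroup G) : Set G) with hN
  set C := Subgroup.centralizer ((P : Subgroup G) : Set G) with hC
  have hN20 : Nat.card N = 20 := five_normalizer h P
  obtain ⟨x, hx⟩ := exists_prime_orderOf_dvd_card' (G := (P : Subgroup G)) 5 (by rw [hP])
  rw [← Subgroup.orderOf_coe] at hx
  have hx5 : (x : G) ^ 5 = 1 := orderOf_dvd_iff_pow_eq_one.1 (by rw [hx])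
  have hfree : ∀ c : G ⧸ H, (x : G) • c ≠ c := by
    intro c hc
    have h1 := (stabilizer G c).orderOf_dvd_natCard hc
    rw [hx, card_stabilizer h hi] at h1
    norm_num at h1
  -- an involution does not centralise `P`
  have hnoinv : ∀ y ∈ C, y * y = 1 → y = 1 := by
    intro y hy hyy
    have hcomm : (x : G) * y = y * x := Subgroup.mem_centralizer_iff.1 hy _ x.2
    by_cases hne : ∃ a : G ⧸ H, y • a = a
    · obtain ⟨a, ha⟩ := hne
      have hF : ∀ c ∈ five (x : G) a, y • c = c := fun c hc => fix_five hcomm ha hc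
      refine eq_one_of_fix_all H hHt fun b => ?_
      by_cases hb : b ∈ five (x : G) a
      · exact hF b hb
      by_contra hyb
      -- only five points are fixed
      have hfix : Nat.card (fixedBy (G ⧸ H) y) = 5 := by
        rw [← card_five hx5 hfree a, ← Nat.card_eq_finsetCard]
        refine Nat.card_congr (Equiv.subtypeEquivRight fun c => ?_)
        rw [mem_fixedBy]
        refine ⟨fun hc => ?_, hF c⟩
        rcases five_cases hX hx5 hfree hb c with hc' | hc'
        · exact hc'
        · obtain ⟨i, hi', rfl⟩ := mem_five.1 hc'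
          exfalso
          apply hyb
          apply MulAction.injective ((x : G) ^ i)
          show (x : G) ^ i • y • b = (x : G) ^ i • b
          rw [← mul_smul, (Commute.pow_left (show Commute (x : G) y from hcomm) i).eq, mul_smul, hc]
      have := fix_involution h hi hyy
      omega
    · push Not at hne
      have hfix : Nat.card (fixedBy (G ⧸ H) y) = 0 := by
        rw [Nat.card_eq_zero]
        exact Or.inl ⟨fun c => hne c.1 c.2⟩
      have := fix_involution h hi hyy
      omega
  -- so `|N : C| = 4`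
  have hCN : C ≤ N := Subgroup.centralizer_le_normalizer _
  obtain ⟨e, c, hec, he1, hed, ⟨k, hk⟩, hcC⟩ := normalizer_card_eq hG P hP
  rw [← hC] at hcC
  rw [← hN, hN20] at hec
  have hk1 : k = 1 := by
    have h4 : e * k = 4 := by rw [hk] at hec; linarith
    by_contra hne
    obtain ⟨y, hy⟩ : ∃ y : C, orderOf y = 2 := by
      refine exists_prime_orderOf_dvd_card' 2 ?_
      rw [← hcC, hk]
      have : e ≤ 4 := Nat.le_of_dvd (by norm_num) hed
      interval_cases e <;> omega
    have := hnoinv y y.2 (by
      rw [← Subgroup.coe_mul, ← pow_two, ← hy, pow_orderOf_eq_one]; rfl)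
    rw [show y = 1 from Subtype.ext this, orderOf_one] at hy
    norm_num at hy
  have hC5 : Nat.card C = 5 := by rw [← hcC, hk, hk1]
  -- an element squaring to the inversion
  let φ := Subgroup.normalizerMonoidHom (P : Subgroup G)
  haveI : IsCyclic (P : Subgroup G) := isCyclic_of_prime_card hP
  have hφ : Function.Surjective φ := by
    have hker : Nat.card φ.ker = 5 := by
      rw [Subgroup.normalizerMonoidHom_ker, Nat.card_congr (Subgroup.subgroupOfEquivOfLe hCN).toEquiv,
        hC5]
    have h1 := Subgroup.card_eq_card_quotient_mul_card_subgroup φ.ker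
    rw [Nat.card_congr (QuotientGroup.quotientKerEquivRange φ).toEquiv, hker, hN20] at h1
    have h2 : Nat.card (MulAut (P : Subgroup G)) = 4 := by
      rw [IsCyclic.card_mulAut, hP, Nat.totient_prime (by norm_num)]
    haveI : Finite (MulAut (P : Subgroup G)) := Nat.finite_of_card_ne_zero (by omega)
    rw [← MonoidHom.range_eq_top]
    exact Subgroup.eq_top_of_card_eq _ (by omega)
  letI : CommGroup (P : Subgroup G) := IsCyclic.commGroup
  have hcop : (Nat.card (P : Subgroup G)).Coprime 2 := by rw [hP]; norm_num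
  obtain ⟨u₀, hu₀⟩ := hφ (MulEquiv.mk' (powCoprime hcop) fun a b => mul_pow a b 2)
  have hu₀x : (u₀ : G) * (x : G) * (u₀ : G)⁻¹ = (x : G) ^ 2 := by
    have := congrArg (fun f : MulAut (P : Subgroup G) => ((f x : (P : Subgroup G)) : G)) hu₀
    exact this
  set u := (u₀ : G) ^ 5 with hu
  have hconj : ∀ (g : G) (i : ℕ), g * (x : G) * g⁻¹ = (x : G) ^ i →
      ∀ n : ℕ, g ^ n * (x : G) * (g ^ n)⁻¹ = (x : G) ^ (i ^ n) := by
    intro g i hg n
    induction n with
    | zero => simp
    | succ n ih =>
      calc g ^ (n + 1) * (x : G) * (g ^ (n + 1))⁻¹ = g * (g ^ n * x * (g ^ n)⁻¹) * g⁻¹ := by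
            rw [pow_succ']; group
        _ = (g * x * g⁻¹) ^ (i ^ n) := by rw [ih, conj_pow]
        _ = (x : G) ^ (i ^ (n + 1)) := by rw [hg, ← pow_mul, ← pow_succ']
  have hu4 : u ^ 4 = 1 := by
    rw [hu, ← pow_mul, show 5 * 4 = Nat.card N by rw [hN20]]
    exact congrArg Subtype.val (pow_card_eq_one' (x := u₀))
  have hux : u * (x : G) * u⁻¹ = (x : G) ^ 2 := by
    rw [hu, hconj _ 2 hu₀x 5, pow_eq_pow_mod _ hx5]; norm_num
  set t := u ^ 2 with ht
  have htx : t * (x : G) * t⁻¹ = (x : G) ^ 4 := by rw [ht, hconj u 2 hux 2]; norm_num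
  have htt : t * t = 1 := by rw [ht, ← pow_add, hu4]
  -- `t` fixes at most one point of each orbit
  have hone : ∀ a : G ⧸ H, t • a = a → ∀ c ∈ five (x : G) a, t • c = c → c = a := by
    intro a ha c hc hct
    obtain ⟨i, hi', rfl⟩ := mem_five.1 hc
    have h1 : t * (x : G) ^ i = (x : G) ^ (4 * i) * t := by
      rw [pow_mul, ← htx, conj_pow]; group
    rw [← mul_smul, h1, mul_smul, ha] at hct
    have h2 : (x : G) ^ (3 * i % 5) • a = a := by
      rw [← pow_eq_pow_mod _ hx5]
      apply MulAction.injective ((x : G) ^ i)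
      show (x : G) ^ i • (x : G) ^ (3 * i) • a = (x : G) ^ i • a
      rw [← mul_smul, ← pow_add, show i + 3 * i = 4 * i by ring, hct]
    have h3 := eq_zero_of_pow_five_fix hx5 hfree (Nat.mod_lt _ (by norm_num)) h2
    obtain rfl : i = 0 := by omega
    rw [pow_zero, one_smul]
  have hfix2 : Nat.card (fixedBy (G ⧸ H) t) = 2 := by
    have h0 := fix_involution h hi htt
    suffices hle : Nat.card (fixedBy (G ⧸ H) t) ≤ 2 by omega
    obtain ⟨a⟩ : Nonempty (fixedBy (G ⧸ H) t) := (Nat.card_pos_iff.1 (by omega)).1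
    refine (Nat.card_le_card_of_injective
      (fun c : fixedBy (G ⧸ H) t => decide (c.1 ∈ five (x : G) a.1)) ?_).trans (by simp)
    intro c d hcd
    simp only [decide_eq_decide] at hcd
    by_cases hc : c.1 ∈ five (x : G) a.1
    · exact Subtype.ext ((hone _ a.2 _ hc c.2).trans (hone _ a.2 _ (hcd.1 hc) d.2).symm)
    · refine Subtype.ext (hone _ c.2 _ ?_ d.2).symm
      exact (five_cases hX hx5 hfree hc d.1).resolve_left fun hd => hc (hcd.2 hd)
  rw [Nat.card_coe_set_eq, Set.ncard_eq_two] at hfix2
  obtain ⟨a, b, hab, hset⟩ := hfix2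
  have hfixiff : ∀ c : G ⧸ H, t • c = c ↔ c = a ∨ c = b := fun c => by
    rw [← mem_fixedBy, hset]; simp
  have hperm : ∀ c : G ⧸ H, u • u • c = t • c := fun c => by rw [ht, sq, mul_smul]
  have hmap : ∀ c, (c = a ∨ c = b) → (u • c = a ∨ u • c = b) := by
    intro c hc
    rw [← hfixiff, ← mul_smul, show t * u = u * t by rw [ht, ← pow_succ, ← pow_succ'], mul_smul,
      (hfixiff c).2 hc]
  have hua : u • a = a := by
    rcases hmap a (Or.inl rfl) with h1 | h1
    · exact h1
    exfalso
    have h2 : u • b = a := by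
      rcases hmap b (Or.inr rfl) with h2 | h2
      · exact h2
      · exact absurd (MulAction.injective u (h1.trans h2.symm)) hab
    have hs := sign_two_four (σ := toPermHom G (G ⧸ H) u) hX hab h1 h2
      (by rw [← map_pow, hu4, map_one]) (fun c hca hcb hc => by
        have : t • c = c := (hperm c).symm.trans hc
        rcases (hfixiff c).1 this with e | e
        · exact hca e
        · exact hcb e)
    rw [sign_eq_one h] at hs
    exact absurd hs (by decide)
  have hub : u • b = b := by
    rcases hmap b (Or.inr rfl) with h2 | h2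
    · exact absurd (MulAction.injective u (hua.trans h2.symm)) hab
    · exact h2
  exact ⟨u, a, b, hu4, hab, hua, hub, fun c hc => (hfixiff c).1 ((hperm c).symm.trans hc)⟩

/-- A nontrivial normal three-subgroup of a group of order 72, seen in a subgroup. -/
theorem exists_normal_three (K : Subgroup G) (hK : Nat.card K = 72) :
    ∃ R : Subgroup K, R.Normal ∧ R ≠ ⊥ ∧ (Nat.card R = 3 ∨ Nat.card R = 9) := by
  classical
  haveI : Fact (Nat.Prime 3) := ⟨by norm_num⟩
  have hc : Nat.card K = 3 ^ 2 * 8 := by rw [hK]; norm_num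
  let P : Sylow 3 K := default
  have hne : (P : Subgroup K).normalCore ≠ ⊥ := by
    have hn : Nat.card (Sylow 3 K) ≤ 4 := by
      have h1 := sylow_count_mem hc (by norm_num)
      rw [show ((8 : ℕ).divisors.filter fun d => d % 3 = 1) = {1, 4} by decide +kernel] at h1
      simp only [Finset.mem_insert, Finset.mem_singleton] at h1
      omega
    let ψ := MulAction.toPermHom K (Sylow 3 K)
    have h3 : 3 ∣ Nat.card ψ.ker := by
      have h1 := Subgroup.card_eq_card_quotient_mul_card_subgroup ψ.ker
      rw [Nat.card_congr (QuotientGroup.quotientKerEquivRange ψ).toEquiv, hK] at h1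
      have h2 : Nat.card ψ.range ∣ 24 := by
        refine (Subgroup.card_subgroup_dvd_card _).trans ?_
        rw [Nat.card_perm]
        exact Nat.factorial_dvd_factorial hn
      have h9 : 9 ∣ Nat.card ψ.range * Nat.card ψ.ker := h1 ▸ by norm_num
      by_contra hnd
      have hcop : Nat.Coprime 9 (Nat.card ψ.ker) :=
        Nat.Coprime.pow_left 2 ((Nat.Prime.coprime_iff_not_dvd (by norm_num : Nat.Prime 3)).2 hnd)
      have := (hcop.dvd_of_dvd_mul_right h9).trans h2
      norm_num at this
    obtain ⟨y, hy⟩ := exists_prime_orderOf_dvd_card' 3 h3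
    intro hbot
    have hy1 : (y : K) ∈ (P : Subgroup K).normalCore := by
      intro g
      have hfix : (y : K) • (g⁻¹ • P) = g⁻¹ • P := by
        have := MonoidHom.mem_ker.1 y.2
        exact congrArg (fun e : Equiv.Perm (Sylow 3 K) => e (g⁻¹ • P)) this
      have hn' : (y : K) ∈ Subgroup.normalizer (((g⁻¹ • P : Sylow 3 K) : Subgroup K) : Set K) :=
        Sylow.smul_eq_iff_mem_normalizer.1 hfix
      have hmem := mem_sylow_of_orderOf (g⁻¹ • P : Sylow 3 K) hn' (k := 1)
        (by rw [Subgroup.orderOf_coe, hy, pow_one])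
      rw [Sylow.coe_subgroup_smul, Subgroup.mem_pointwise_smul_iff_inv_smul_mem] at hmem
      simpa [MulAut.smul_def] using hmem
    rw [hbot, Subgroup.mem_bot] at hy1
    rw [show y = 1 from Subtype.ext hy1, orderOf_one] at hy
    norm_num at hy
  refine ⟨_, Subgroup.normalCore_normal _, hne, ?_⟩
  have h1 := Subgroup.card_dvd_of_le (Subgroup.normalCore_le (P : Subgroup K))
  rw [sylow_card hc (by norm_num) P] at h1
  obtain ⟨i, hi, hR⟩ := (Nat.dvd_prime_pow (by norm_num : Nat.Prime 3)).1 h1
  interval_cases i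
  · exact absurd (Subgroup.card_eq_one.1 (by simpa using hR)) hne
  · exact Or.inl (by simpa using hR)
  · exact Or.inr (by simpa using hR)

/-- An automorphism-free reformulation: the stabilizer of a point is transitive on the others, has a
regular normal subgroup of order nine, and each involution fixing two points fixes only these two. -/
theorem stabilizer_structure (h : Nat.card G = 720) {H : Subgroup G} (hi : H.index = 10)
    {u : G} {a b : G ⧸ H} (hu1 : u ^ 4 = 1) (hab : a ≠ b) (hua : u • a = a) (hub : u • b = b)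
    (hu2 : ∀ c : G ⧸ H, u • u • c = c → c = a ∨ c = b) :
    (∀ c, c ≠ a → ∃ g : G, g • a = a ∧ g • b = c) ∧
      ∀ y₁ y₂ : G, y₁ * y₁ = 1 → y₂ * y₂ = 1 → y₁ ≠ 1 → y₂ ≠ 1 → y₁ • a = a → y₁ • b = b →
        y₂ • a = a → y₂ • b = b → y₁ = y₂ ∧ ∀ c, y₁ • c = c → c = a ∨ c = b := by
  classical
  haveI : Fintype (G ⧸ H) := Fintype.ofFinite _
  have hX : Fintype.card (G ⧸ H) = 10 := by rw [← Nat.card_eq_fintype_card, ← hi]; rfl
  have hHt : H ≠ ⊤ := fun e => by rw [e, Subgroup.index_top] at hi; omega
  set A := stabilizer G a with hA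
  have hA72 : Nat.card A = 72 := card_stabilizer h hi a
  have huA : u ∈ A := hua
  -- powers of `u` on other points
  have hu4 : ∀ c, c ≠ a → c ≠ b → u • c ≠ c ∧ u • u • c ≠ c ∧ u • c ≠ a ∧ u • c ≠ b ∧
      u • u • c ≠ a ∧ u • u • c ≠ b := by
    intro c hca hcb
    have h1 : u • c ≠ a := fun e => hca (MulAction.injective u (e.trans hua.symm))
    have h2 : u • c ≠ b := fun e => hcb (MulAction.injective u (e.trans hub.symm))
    refine ⟨fun e => ?_, fun e => ?_, h1, h2, fun e => h1 (MulAction.injective u (e.trans hua.symm)),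
      fun e => h2 (MulAction.injective u (e.trans hub.symm))⟩
    · rcases hu2 c (by rw [e, e]) with r | r
      · exact hca r
      · exact hcb r
    · rcases hu2 c e with r | r
      · exact hca r
      · exact hcb r
  -- transitivity
  set O := orbit A b with hO
  have hOa : a ∉ O := by
    intro ha
    obtain ⟨g, hg⟩ := ha
    have : (g : G) • b = (g : G) • a := (show (g : G) • b = a from hg).trans g.2.symm
    exact hab (MulAction.injective (g : G) this).symm
  have hOu : ∀ c ∈ O, u • c ∈ O := by
    rintro c ⟨g, rfl⟩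
    exact ⟨⟨u, huA⟩ * g, mul_smul _ _ _⟩
  have hOcard : Nat.card O ∣ 72 := by
    rw [← hA72, Nat.card_congr (orbitEquivQuotientStabilizer A b)]
    exact Subgroup.card_quotient_dvd_card _
  have hOfull : ∀ c, c ≠ a → c ∈ O := by
    by_contra hne
    push Not at hne
    obtain ⟨c, hca, hcO⟩ := hne
    by_cases hO1 : ∃ d ∈ O, d ≠ b
    · -- the orbit has five points
      obtain ⟨d, hdO, hdb⟩ := hO1
      have hda : d ≠ a := fun e => hOa (e ▸ hdO)
      obtain ⟨h1, h2, h3, h4, h5, h6⟩ := hu4 d hda hdb
      set S : Finset (G ⧸ H) := {b, d, u • d, u • u • d, u • u • u • d} with hS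
      have hscard : S.card = 5 := by
        obtain ⟨i1, i2, i3, i4, i5, i6⟩ := hu4 (u • d) h3 h4
        obtain ⟨j1, -, j3, j4, -, -⟩ := hu4 (u • u • d) h5 h6
        have k1 : u • u • u • d ≠ d := by
          intro e
          have e' := congrArg (fun z => u • z) e
          simp only [← mul_smul] at e'
          rw [show u * (u * (u * u)) = u ^ 4 by simp [pow_succ, mul_assoc], hu1, one_smul] at e'
          exact h1 e'.symm
        rw [hS]
        simp only [Finset.card_insert_of_notMem, Finset.mem_insert, Finset.mem_singleton,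
          Finset.card_singleton, not_or, ne_comm.1 hdb, Ne.symm h1, Ne.symm h2, Ne.symm h4,
          Ne.symm h6, Ne.symm i1, Ne.symm i2, Ne.symm i6, Ne.symm j1, Ne.symm k1, not_false_eq_true,
          and_self]
      have hSO : ∀ z ∈ S, z ∈ O := by
        intro z hz
        simp only [hS, Finset.mem_insert, Finset.mem_singleton] at hz
        rcases hz with rfl | rfl | rfl | rfl | rfl
        · exact mem_orbit_self _
        · exact hdO
        · exact hOu _ hdO
        · exact hOu _ (hOu _ hdO)
        · exact hOu _ (hOu _ (hOu _ hdO))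
      have h5le : 5 ≤ Nat.card O := by
        rw [← hscard, ← Nat.card_eq_finsetCard]
        exact Nat.card_le_card_of_injective (fun z => ⟨z.1, hSO _ z.2⟩)
          fun z w e => Subtype.ext (congrArg Subtype.val e :)
      -- and the orbit of `c` under `u` misses it
      have hcb : c ≠ b := fun e => hcO (e ▸ mem_orbit_self _)
      have hOinv : ∀ z, z ∉ O → u • z ∉ O := by
        intro z hz hzu
        obtain ⟨g, hg⟩ := hzu
        refine hz ⟨(⟨u, huA⟩ : A)⁻¹ * g, ?_⟩
        show ((⟨u, huA⟩ : A)⁻¹ * g) • b = z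
        rw [mul_smul, inv_smul_eq_iff]
        exact hg
      obtain ⟨c1, c2, c3, -, c5, -⟩ := hu4 c hca hcb
      set T : Finset (G ⧸ H) := {a, c, u • c, u • u • c} with hT
      have htcard : T.card = 4 := by
        obtain ⟨i1, -, -, -, -, -⟩ := hu4 (u • c) c3 (fun e => hcb (MulAction.injective u (e.trans hub.symm)))
        rw [hT]
        simp only [Finset.card_insert_of_notMem, Finset.mem_insert, Finset.mem_singleton,
          Finset.card_singleton, not_or, ne_comm.1 hca, Ne.symm c1, Ne.symm c2, Ne.symm c3,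
          Ne.symm c5, Ne.symm i1, not_false_eq_true, and_self]
      have hle : Nat.card O ≤ 6 := by
        have hTO : ∀ z ∈ T, z ∉ O := by
          intro z hz
          simp only [hT, Finset.mem_insert, Finset.mem_singleton] at hz
          rcases hz with rfl | rfl | rfl | rfl
          · exact hOa
          · exact hcO
          · exact hOinv _ hcO
          · exact hOinv _ (hOinv _ hcO)
        have h7 : Nat.card O ≤ Tᶜ.card := by
          rw [← Nat.card_eq_finsetCard]
          exact Nat.card_le_card_of_injective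
            (fun z => ⟨z.1, Finset.mem_compl.2 fun hz => hTO _ hz z.2⟩)
            fun z w e => Subtype.ext (congrArg Subtype.val e :)
        rwa [Finset.card_compl, hX, htcard] at h7
      have hpre : ∀ z, u • z ∈ S → z ∈ S := by
        intro z hz
        have hd4 : u • u • u • u • d = d := by
          simp only [← mul_smul]
          rw [show u * (u * (u * u)) = u ^ 4 by simp [pow_succ, mul_assoc], hu1, one_smul]
        simp only [hS, Finset.mem_insert, Finset.mem_singleton] at hz ⊢
        rcases hz with e | e | e | e | e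
        · exact Or.inl (MulAction.injective u (e.trans hub.symm))
        · exact Or.inr (Or.inr (Or.inr (Or.inr (MulAction.injective u (e.trans hd4.symm)))))
        · exact Or.inr (Or.inl (MulAction.injective u e))
        · exact Or.inr (Or.inr (Or.inl (MulAction.injective u e)))
        · exact Or.inr (Or.inr (Or.inr (Or.inl (MulAction.injective u e))))
      have hmem : Nat.card O = 5 ∨ Nat.card O = 6 := by omega
      rcases hmem with e | e
      · rw [e] at hOcard; norm_num at hOcard
      · -- six points would be two orbits of `u` and `b`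
        obtain ⟨z, hzO, hzS⟩ : ∃ z ∈ O, z ∉ S := by
          by_contra hnone
          push Not at hnone
          have h7 : Nat.card O ≤ S.card := by
            rw [← Nat.card_eq_finsetCard]
            exact Nat.card_le_card_of_injective (fun z => ⟨z.1, hnone _ z.2⟩)
              fun z w e' => Subtype.ext (congrArg Subtype.val e' :)
          omega
        have hins : insert z S = (Set.toFinite O).toFinset := by
          refine Finset.eq_of_subset_of_card_le (fun w hw => ?_) ?_
          · rw [Set.Finite.mem_toFinset]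
            rcases Finset.mem_insert.1 hw with rfl | hw
            · exact hzO
            · exact hSO _ hw
          · rw [Finset.card_insert_of_notMem hzS, hscard, ← Set.ncard_eq_toFinset_card O,
              ← Nat.card_coe_set_eq, e]
        have h8 : u • z ∈ insert z S := by
          rw [hins, Set.Finite.mem_toFinset]; exact hOu _ hzO
        rcases Finset.mem_insert.1 h8 with e' | e'
        · exact (hu4 z (fun e'' => hOa (e'' ▸ hzO)) (fun e'' => hzS (by simp [hS, e'']))).1 e'
        · exact hzS (hpre _ e')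
    · -- `A` fixes `b`
      push Not at hO1
      have hAb : A = stabilizer G b := by
        refine Subgroup.eq_of_le_of_card_ge (fun g hg => ?_) ?_
        · exact hO1 _ ⟨⟨g, hg⟩, rfl⟩
        · rw [hA72, card_stabilizer h hi b]
      obtain ⟨g, hg⟩ := exists_smul_eq G a b
      have hgN : g ∈ Subgroup.normalizer (A : Set G) := by
        rw [Subgroup.mem_normalizer_iff_map_conj_eq]
        have := stabilizer_smul_eq_stabilizer_map_conj g a
        rw [hg, ← hA, ← hAb] at this
        exact this.symm
      have hgA : g ∉ A := fun e => hab ((show g • a = a from e).symm.trans hg)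
      have hNt : Subgroup.normalizer (A : Set G) ≠ ⊤ := by
        intro e
        rw [Subgroup.normalizer_eq_top_iff] at e
        rcases IsSimpleGroup.eq_bot_or_eq_top_of_normal A e with e' | e'
        · rw [e', Subgroup.card_bot] at hA72; omega
        · rw [e', Subgroup.card_top, h] at hA72; omega
      have hlt : A.index = 10 := by
        have := A.index_mul_card
        rw [hA72, h] at this; omega
      have hd := Subgroup.index_dvd_of_le (Subgroup.le_normalizer : A ≤ Subgroup.normalizer (A : Set G))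
      rw [hlt] at hd
      have h8 := index_bound h hNt
      have h10 := Nat.le_of_dvd (by norm_num) hd
      have : (Subgroup.normalizer (A : Set G)).index = 10 := by
        interval_cases (Subgroup.normalizer (A : Set G)).index <;> omega
      exact hgA (by
        rw [Subgroup.eq_of_le_of_card_ge (Subgroup.le_normalizer : A ≤ Subgroup.normalizer (A : Set G))]
        · exact hgN
        · have e1 := (Subgroup.normalizer (A : Set G)).index_mul_card
          rw [this, h] at e1
          omega)
  -- the regular normal subgroup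
  obtain ⟨R, hRn, hR1, hRcard⟩ := exists_normal_three A hA72
  have hRfix : ∀ r : R, (r : A) • b = b → ((r : A) : G) = 1 → r = 1 := fun r _ hr =>
    Subtype.ext (Subtype.ext hr)
  have hRallfix : (∀ r : R, (r : A) • b = b) → False := by
    intro hfix
    apply hR1
    rw [Subgroup.eq_bot_iff_forall]
    intro r hr
    refine Subtype.ext (eq_one_of_fix_all H hHt fun c => ?_)
    by_cases hca : c = a
    · rw [hca]; exact r.2
    obtain ⟨g, hg⟩ := hOfull c hca
    have hgc : g • b = c := hg
    have h1 := hfix ⟨g⁻¹ * r * g, by simpa using hRn.conj_mem r hr g⁻¹⟩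
    show r • c = c
    rw [← hgc]
    calc r • g • b = g • (g⁻¹ * r * g) • b := by rw [← mul_smul, ← mul_smul]; congr 1; group
      _ = g • b := by rw [h1]
  set S := orbit R b with hS
  have hSu : ∀ c ∈ S, u • c ∈ S := by
    rintro c ⟨r, rfl⟩
    refine ⟨⟨(⟨u, huA⟩ : A) * r * (⟨u, huA⟩ : A)⁻¹, hRn.conj_mem r r.2 _⟩, ?_⟩
    show ((⟨u, huA⟩ : A) * r * (⟨u, huA⟩ : A)⁻¹) • b = _
    rw [mul_smul, mul_smul, inv_smul_eq_iff.2 (show b = (⟨u, huA⟩ : A) • b from hub.symm)]
    rfl
  have hScard : Nat.card S ∣ Nat.card R := by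
    rw [Nat.card_congr (orbitEquivQuotientStabilizer R b)]
    exact Subgroup.card_quotient_dvd_card _
  have hR9 : Nat.card R = 9 ∧ Nat.card S = 9 := by
    by_contra hne
    have hS3 : Nat.card S = 1 ∨ Nat.card S = 3 := by
      rcases hRcard with e | e <;> rw [e] at hScard hne
      · exact (Nat.dvd_prime (by norm_num : Nat.Prime 3)).1 hScard
      · obtain ⟨i, hi', hp⟩ := (Nat.dvd_prime_pow (p := 3) (m := 2) (by norm_num)).1
          (show Nat.card S ∣ 3 ^ 2 by simpa using hScard)
        interval_cases i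
        · exact Or.inl (by simpa using hp)
        · exact Or.inr (by simpa using hp)
        · exact absurd ⟨rfl, by simpa using hp⟩ hne
    rcases hS3 with e | e
    · refine hRallfix fun r => ?_
      obtain ⟨z, hz⟩ := Set.ncard_eq_one.1 (show S.ncard = 1 from e)
      have h1 : (r : A) • b ∈ S := ⟨r, rfl⟩
      have h2 : b ∈ S := mem_orbit_self _
      rw [hz, Set.mem_singleton_iff] at h1 h2
      exact h1.trans h2.symm
    · -- three points cannot be invariant under `u`
      obtain ⟨d, hdS, hdb⟩ : ∃ d ∈ S, d ≠ b := Set.exists_ne_of_one_lt_ncard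
        (show 1 < S.ncard by rw [show S.ncard = 3 from e]; norm_num) b
      have hda : d ≠ a := by
        rintro rfl
        obtain ⟨r, hr⟩ := hdS
        exact hOa ⟨(r : A), hr⟩
      obtain ⟨h1, h2, -, h4, -, h6⟩ := hu4 d hda hdb
      obtain ⟨i1, -, -, -, -, -⟩ := hu4 (u • d)
        (fun e => hda (MulAction.injective u (e.trans hua.symm))) h4
      have hsub : ({b, d, u • d, u • u • d} : Set (G ⧸ H)) ⊆ S := by
        rintro z (rfl | rfl | rfl | rfl)
        · exact mem_orbit_self _
        · exact hdS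
        · exact hSu _ hdS
        · exact hSu _ (hSu _ hdS)
      have h4card : ({b, d, u • d, u • u • d} : Set (G ⧸ H)).ncard = 4 := by
        rw [Set.ncard_insert_of_notMem, Set.ncard_insert_of_notMem, Set.ncard_pair (Ne.symm i1)]
        · simp [Ne.symm h1, Ne.symm h2]
        · simp [Ne.symm hdb, Ne.symm h4, Ne.symm h6]
      have := Set.ncard_le_ncard hsub (Set.toFinite _)
      rw [h4card, show S.ncard = 3 from e] at this
      omega
  have hScover : ∀ c, c ≠ a → c ∈ S := by
    intro c hca
    by_contra hcS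
    have hsub : S ⊆ ({a, c} : Set (G ⧸ H))ᶜ := by
      rintro z ⟨r, rfl⟩ (e | e)
      · exact hOa ⟨(r : A), e⟩
      · exact hcS ⟨r, e⟩
    have := Set.ncard_le_ncard hsub (Set.toFinite _)
    rw [Set.ncard_compl, Set.ncard_pair (Ne.symm hca), ← Nat.card_coe_set_eq, hR9.2,
      Nat.card_eq_fintype_card, hX] at this
    omega
  -- the action on `R` of elements fixing `a` and `b`
  have hreg : ∀ r : R, (r : A) • b = b → r = 1 := by
    intro r hr
    have h1 : Nat.card (stabilizer R b) = 1 := by
      have := Subgroup.card_eq_card_quotient_mul_card_subgroup (stabilizer R b)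
      rw [← Nat.card_congr (orbitEquivQuotientStabilizer R b), ← hS, hR9.1, hR9.2] at this
      omega
    have := Subgroup.card_eq_one.1 h1
    have hr' : r ∈ stabilizer R b := hr
    rwa [this, Subgroup.mem_bot] at hr'
  haveI hRc : IsMulCommutative R :=
    IsPGroup.isMulCommutative_of_card_eq_prime_sq (p := 3) (by rw [hR9.1]; norm_num)
  have hmove : ∀ (y : A), (y : G) • b = b → ∀ r : R,
      y • (r : A) • b = ((⟨y * r * y⁻¹, hRn.conj_mem r r.2 y⟩ : R) : A) • b := by
    intro y hy r
    show y • (r : A) • b = (y * r * y⁻¹) • b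
    have hy' : y • b = b := hy
    rw [mul_smul, mul_smul, inv_smul_eq_iff.2 hy'.symm]
  have hinv : ∀ y : A, (y : G) * y = 1 → y ≠ 1 → (y : G) • b = b →
      (∀ c, (y : G) • c = c → c = a ∨ c = b) ∧
        ∀ r : R, ((⟨y * r * y⁻¹, hRn.conj_mem r r.2 y⟩ : R) : A) = (r : A)⁻¹ := by
    intro y hyy hy1 hyb
    let σ : R → R := fun r => ⟨y * r * y⁻¹, hRn.conj_mem r r.2 y⟩
    let K : Subgroup R :=
      { carrier := {r | σ r = r}
        one_mem' := Subtype.ext (by simp [σ])
        mul_mem' := fun {r s} hr hs => Subtype.ext (by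
          have e1 : y * (r : A) * y⁻¹ = (r : A) := congrArg Subtype.val (show σ r = r from hr)
          have e2 : y * (s : A) * y⁻¹ = (s : A) := congrArg Subtype.val (show σ s = s from hs)
          show y * ((r : A) * s) * y⁻¹ = (r : A) * s
          calc y * ((r : A) * s) * y⁻¹ = (y * r * y⁻¹) * (y * s * y⁻¹) := by group
            _ = _ := by rw [e1, e2])
        inv_mem' := fun {r} hr => Subtype.ext (by
          have e1 : y * (r : A) * y⁻¹ = (r : A) := congrArg Subtype.val (show σ r = r from hr)
          show y * (r : A)⁻¹ * y⁻¹ = (r : A)⁻¹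
          calc y * (r : A)⁻¹ * y⁻¹ = (y * r * y⁻¹)⁻¹ := by group
            _ = _ := by rw [e1]) }
    have hfixK : ∀ r : R, (y : G) • ((r : A) • b) = (r : A) • b ↔ r ∈ K := by
      intro r
      rw [show (y : G) • ((r : A) • b) = y • (r : A) • b from rfl, hmove y hyb r]
      refine ⟨fun e => ?_, fun e => congrArg (fun q : R => (q : A) • b) (show σ r = r from e)⟩
      have h1 : ((r⁻¹ * σ r : R) : A) • b = b := by
        rw [Subgroup.coe_mul, mul_smul, show ((σ r : R) : A) • b = (r : A) • b from e,
          Subgroup.coe_inv, inv_smul_smul]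
      exact (inv_mul_eq_one.1 (hreg _ h1)).symm
    have hFcard : Nat.card (fixedBy (G ⧸ H) (y : G)) = Nat.card K + 1 := by
      have hset : fixedBy (G ⧸ H) (y : G) =
          insert a ((fun r : R => (r : A) • b) '' (K : Set R)) := by
        ext c
        simp only [mem_fixedBy, Set.mem_insert_iff, Set.mem_image, SetLike.mem_coe]
        constructor
        · intro hc
          by_cases hca : c = a
          · exact Or.inl hca
          obtain ⟨r, rfl⟩ := hScover c hca
          exact Or.inr ⟨r, (hfixK r).1 hc, rfl⟩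
        · rintro (rfl | ⟨r, hr, rfl⟩)
          · exact y.2
          · exact (hfixK r).2 hr
      rw [Nat.card_coe_set_eq, hset, Set.ncard_insert_of_notMem ?_ (Set.toFinite _),
        Set.ncard_image_of_injective, ← Nat.card_coe_set_eq]
      · rfl
      · intro r s hrs
        have h1 : ((r⁻¹ * s : R) : A) • b = b := by
          rw [Subgroup.coe_mul, mul_smul, show (s : A) • b = (r : A) • b from hrs.symm,
            Subgroup.coe_inv, inv_smul_smul]
        exact inv_mul_eq_one.1 (hreg _ h1)
      · rintro ⟨r, -, hr⟩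
        exact hOa ⟨(r : A), hr⟩
    have hK1 : K = ⊥ := by
      rw [← Subgroup.card_eq_one]
      have hd : Nat.card K ∣ 3 ^ 2 := by
        have := K.card_subgroup_dvd_card
        rwa [hR9.1] at this
      obtain ⟨i, hi', hp⟩ := (Nat.dvd_prime_pow (by norm_num : Nat.Prime 3)).1 hd
      rw [hp] at hFcard ⊢
      interval_cases i
      · norm_num
      · have := fix_involution h hi hyy
        rw [hFcard] at this
        norm_num at this
      · exfalso
        apply hy1
        refine Subtype.ext (eq_one_of_fix_all H hHt fun c => ?_)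
        have hall : fixedBy (G ⧸ H) (y : G) = Set.univ := by
          refine Set.eq_of_subset_of_ncard_le (Set.subset_univ _) ?_ (Set.toFinite _)
          rw [← Nat.card_coe_set_eq (fixedBy (G ⧸ H) (y : G)), hFcard, Set.ncard_univ,
            Nat.card_eq_fintype_card, hX]
          norm_num
        exact (hall ▸ Set.mem_univ c : c ∈ fixedBy (G ⧸ H) (y : G))
    refine ⟨fun c hc => ?_, fun r => ?_⟩
    · by_cases hca : c = a
      · exact Or.inl hca
      obtain ⟨r, rfl⟩ := hScover c hca
      have := (hfixK r).1 hc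
      rw [hK1, Subgroup.mem_bot] at this
      subst this
      exact Or.inr (one_smul _ _)
    · have hyy' : y * y = 1 := Subtype.ext hyy
      have h1 : r * σ r ∈ K := by
        refine Subtype.ext ?_
        show y * ((r : A) * (y * r * y⁻¹)) * y⁻¹ = (r : A) * (y * r * y⁻¹)
        have hc := congrArg Subtype.val (mul_comm' (σ r) r)
        calc y * ((r : A) * (y * r * y⁻¹)) * y⁻¹ = (y * r * y⁻¹) * ((y * y) * r * (y * y)⁻¹) := by
              group
          _ = (y * r * y⁻¹) * r := by rw [hyy']; group
          _ = _ := hc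
      rw [hK1, Subgroup.mem_bot] at h1
      exact congrArg Subtype.val (eq_inv_of_mul_eq_one_right h1)
  refine ⟨fun c hca => ?_, fun y₁ y₂ h11 h22 hn1 hn2 h1a h1b h2a h2b => ?_⟩
  · obtain ⟨g, hg⟩ := hOfull c hca
    exact ⟨g, g.2, hg⟩
  · have i1 := hinv ⟨y₁, h1a⟩ h11 (fun e => hn1 (congrArg Subtype.val e)) h1b
    have i2 := hinv ⟨y₂, h2a⟩ h22 (fun e => hn2 (congrArg Subtype.val e)) h2b
    refine ⟨?_, i1.1⟩
    have hkey : y₁⁻¹ * y₂ = 1 := by
      refine eq_one_of_fix_all H hHt fun c => ?_
      by_cases hca : c = a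
      · rw [hca, mul_smul, h2a, inv_smul_eq_iff, h1a]
      obtain ⟨r, rfl⟩ := hScover c hca
      rw [mul_smul, inv_smul_eq_iff]
      have e1 := hmove ⟨y₁, h1a⟩ h1b r
      have e2 := hmove ⟨y₂, h2a⟩ h2b r
      rw [i1.2 r] at e1
      rw [i2.2 r] at e2
      exact e2.trans e1.symm
    exact inv_mul_eq_one.1 hkey

set_option maxHeartbeats 1000000 in
-- one long proof
/-- A simple group of order 720 has no subgroup of index ten. -/
theorem no_index_ten (h : Nat.card G = 720) (H : Subgroup G) : H.index ≠ 10 := by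
  classical
  intro hi
  haveI : Fintype (G ⧸ H) := Fintype.ofFinite _
  haveI : Fact (Nat.Prime 2) := ⟨Nat.prime_two⟩
  have hX : Fintype.card (G ⧸ H) = 10 := by rw [← Nat.card_eq_fintype_card, ← hi]; rfl
  have hHt : H ≠ ⊤ := fun e => by rw [e, Subgroup.index_top] at hi; omega
  obtain ⟨u, a, b, hu1, hab, hua, hub, hu2⟩ := exists_u h hi
  obtain ⟨htrans, huniq⟩ := stabilizer_structure h hi hu1 hab hua hub hu2
  have hu2ne : u ^ 2 ≠ 1 := by
    intro e
    have hall : ∀ c : G ⧸ H, c = a ∨ c = b := fun c => hu2 c (by rw [← mul_smul, ← sq, e, one_smul])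
    have hsub : (Finset.univ : Finset (G ⧸ H)) ⊆ {a, b} := fun c _ => by simpa using hall c
    have := Finset.card_le_card hsub
    rw [Finset.card_univ, hX, Finset.card_pair hab] at this
    omega
  -- the pointwise and setwise stabilizers of the pair
  set Q := stabilizer G a ⊓ stabilizer G b with hQ
  let J : Subgroup G :=
    { carrier := {g | (g • a = a ∧ g • b = b) ∨ (g • a = b ∧ g • b = a)}
      one_mem' := Or.inl ⟨one_smul _ _, one_smul _ _⟩
      mul_mem' := by
        rintro g g' (⟨h1, h2⟩ | ⟨h1, h2⟩) (⟨h3, h4⟩ | ⟨h3, h4⟩) <;>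
          simp [mul_smul, h1, h2, h3, h4]
      inv_mem' := by
        rintro g (⟨h1, h2⟩ | ⟨h1, h2⟩)
        · exact Or.inl ⟨inv_smul_eq_iff.2 h1.symm, inv_smul_eq_iff.2 h2.symm⟩
        · exact Or.inr ⟨inv_smul_eq_iff.2 h2.symm, inv_smul_eq_iff.2 h1.symm⟩ }
  have hQJ : Q ≤ J := fun g hg => Or.inl ⟨hg.1, hg.2⟩
  have hJswap : ∀ g ∈ J, g ∉ Q → g • a = b ∧ g • b = a := by
    rintro g (⟨h1, h2⟩ | hg) hgQ
    · exact absurd ⟨h1, h2⟩ hgQ
    · exact hg
  have hmemQ : ∀ {g : G}, g • a = a → g • b = b → g ∈ Q := fun h1 h2 => ⟨h1, h2⟩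
  have hQ8 : Nat.card Q = 8 := by
    have horb : Nat.card (orbit (stabilizer G a) b) = 9 := by
      have hset : orbit (stabilizer G a) b = {a}ᶜ := by
        ext c
        refine ⟨?_, fun hc => ?_⟩
        · rintro ⟨g, rfl⟩ e
          exact hab (MulAction.injective (g : G) ((show (g : G) • b = a from e).trans g.2.symm)).symm
        · obtain ⟨g, hg1, hg2⟩ := htrans c hc
          exact ⟨⟨g, hg1⟩, hg2⟩
      rw [Nat.card_coe_set_eq, hset, Set.ncard_compl, Set.ncard_singleton, Nat.card_eq_fintype_card, hX]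
    have h1 := Subgroup.card_eq_card_quotient_mul_card_subgroup (stabilizer (stabilizer G a) b)
    rw [← Nat.card_congr (orbitEquivQuotientStabilizer (stabilizer G a) b), horb,
      card_stabilizer h hi a] at h1
    have h2 : stabilizer (stabilizer G a) b = Q.subgroupOf (stabilizer G a) := by
      ext g
      simp only [mem_stabilizer_iff, Subgroup.mem_subgroupOf, hQ, Subgroup.mem_inf]
      exact ⟨fun hg => ⟨g.2, hg⟩, fun hg => hg.2⟩
    rw [h2, Nat.card_congr (Subgroup.subgroupOfEquivOfLe (inf_le_left : Q ≤ stabilizer G a)).toEquiv]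
      at h1
    rw [← hQ] at h1
    omega
  obtain ⟨s₀, hs₀a, hs₀b⟩ : ∃ g : G, g • a = b ∧ g • b = a := by
    obtain ⟨g, hg⟩ := exists_smul_eq G a b
    set c := g • b with hc
    have hcb : c ≠ b := fun e => hab (MulAction.injective g (hg.trans e.symm))
    -- the stabilizer of `b` is transitive on the other points
    obtain ⟨f, hf1, hf2⟩ := htrans (g⁻¹ • a) (fun e => hab (by
      rw [inv_smul_eq_iff, hg] at e; exact e))
    refine ⟨g * f, by rw [mul_smul, hf1, hg], by rw [mul_smul, hf2, smul_inv_smul]⟩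
  have hs₀J : s₀ ∈ J := Or.inr ⟨hs₀a, hs₀b⟩
  set Q' := Q.subgroupOf J with hQ'
  have hQidx : Q'.index = 2 := by
    rw [Subgroup.index_eq_two_iff]
    refine ⟨⟨s₀, hs₀J⟩, fun g => ?_⟩
    simp only [hQ', Subgroup.mem_subgroupOf, Subgroup.coe_mul]
    rcases g.2 with ⟨h1, h2⟩ | ⟨h1, h2⟩
    · refine Or.inr ⟨hmemQ h1 h2, fun e => ?_⟩
      have e' : ((g : G) * s₀) • a = a := e.1
      rw [mul_smul, hs₀a, h2] at e'
      exact hab e'.symm
    · refine Or.inl ⟨hmemQ (by rw [mul_smul, hs₀a, h2]) (by rw [mul_smul, hs₀b, h1]), fun e => ?_⟩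
      exact hab ((show (g : G) • a = a from e.1).symm.trans h1)
  have hJ16 : Nat.card J = 2 ^ 4 := by
    have := Q'.index_mul_card
    rw [hQidx, hQ', Nat.card_congr (Subgroup.subgroupOfEquivOfLe hQJ).toEquiv, hQ8] at this
    rw [← this]; norm_num
  -- nontrivial elements of `Q` fix exactly two points
  have hinvol : ∀ y ∈ Q, y * y = 1 → y ≠ 1 → y = u ^ 2 ∧ ∀ c : G ⧸ H, y • c = c → c = a ∨ c = b := by
    intro y hy hyy hy1
    have h2a : (u ^ 2) • a = a := pow_smul_of_fix hua 2
    have h2b : (u ^ 2) • b = b := pow_smul_of_fix hub 2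
    exact huniq y (u ^ 2) hyy (by rw [← pow_add, hu1]) hy1 hu2ne hy.1 hy.2 h2a h2b
  have hpow8 : ∀ q ∈ Q, q ^ 8 = 1 := fun q hq => by
    rw [← hQ8]; exact congrArg Subtype.val (pow_card_eq_one' (x := (⟨q, hq⟩ : Q)))
  have hexact : ∀ q ∈ Q, q ≠ 1 → ∀ c : G ⧸ H, q • c = c → c = a ∨ c = b := by
    intro q hq hq1 c hc
    by_cases h4 : q ^ 4 = 1
    · by_cases h2 : q ^ 2 = 1
      · exact (hinvol q hq (by rw [← sq, h2]) hq1).2 c hc
      · exact (hinvol _ (Q.pow_mem hq 2) (by rw [← pow_add, h4]) h2).2 c (pow_smul_of_fix hc 2)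
    · exact (hinvol _ (Q.pow_mem hq 4) (by rw [← pow_add, hpow8 q hq]) h4).2 c (pow_smul_of_fix hc 4)
  have hQ4 : ∀ q ∈ Q, q ^ 4 = 1 := by
    intro q hq
    by_contra h4
    have hs := sign_eight (σ := toPermHom G (G ⧸ H) q) hX hab hq.1 hq.2
      (by rw [← map_pow, hpow8 q hq, map_one]) (fun c hca hcb e => by
        rw [← map_pow] at e
        rcases hexact _ (Q.pow_mem hq 4) h4 c e with r | r
        · exact hca r
        · exact hcb r)
    rw [sign_eq_one h] at hs
    exact absurd hs (by decide)
  -- elements swapping `a` and `b` have order two or eight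
  have hsq : ∀ g ∈ J, g ^ 2 ∈ Q := by
    rintro g (⟨h1, h2⟩ | ⟨h1, h2⟩)
    · exact Q.pow_mem ⟨h1, h2⟩ 2
    · exact hmemQ (by rw [sq, mul_smul, h1, h2]) (by rw [sq, mul_smul, h2, h1])
  have hswap : ∀ g ∈ J, g ∉ Q → g ^ 4 = 1 → g ^ 2 = 1 := by
    intro g hg hgQ h4
    by_contra h2
    obtain ⟨ha', hb'⟩ := hJswap g hg hgQ
    have hs := sign_two_four (σ := toPermHom G (G ⧸ H) g) hX hab ha' hb'
      (by rw [← map_pow, h4, map_one]) (fun c hca hcb e => by
        have e' : g ^ 2 • c = c := by rw [sq, mul_smul]; exact e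
        rcases hexact _ (hsq g hg) h2 c e' with r | r
        · exact hca r
        · exact hcb r)
    rw [sign_eq_one h] at hs
    exact absurd hs (by decide)
  have hQ'n : Q'.Normal := Subgroup.normal_of_index_eq_two hQidx
  -- a subgroup of index two separating the orders
  obtain ⟨M, hM2, hMin, hMout⟩ : ∃ M : Subgroup J, M.index = 2 ∧
      (∀ g : J, g ^ 2 = 1 → g ∈ M) ∧ ∀ g : J, g ^ 4 ≠ 1 → g ∉ M := by
    by_cases hs : ∀ g : J, g ∉ Q' → g ^ 4 ≠ 1
    · refine ⟨Q', hQidx, fun g hg => by_contra fun hgQ => hs g hgQ ?_, fun g hg hgQ => hg ?_⟩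
      · rw [show (4 : ℕ) = 2 * 2 from rfl, pow_mul, hg, one_pow]
      · exact Subtype.ext (by simpa using hQ4 _ hgQ)
    push Not at hs
    obtain ⟨s, hsQ, hs4⟩ := hs
    have hs2 : s ^ 2 = 1 := Subtype.ext (by
      simpa using hswap s s.2 hsQ (by simpa using congrArg Subtype.val hs4))
    obtain ⟨w, hwQ, hw4⟩ : ∃ w : J, w ∉ Q' ∧ w ^ 4 ≠ 1 := by
      by_contra hno
      push Not at hno
      have hinvert : ∀ q ∈ Q', s * q * s⁻¹ = q⁻¹ := by
        intro q hq
        have hsq' : s * q ∉ Q' := fun e => hsQ (by simpa using Q'.mul_mem e (Q'.inv_mem hq))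
        have h2 : (s * q) ^ 2 = 1 := Subtype.ext (by
          simpa using hswap _ (s * q).2 hsq' (by simpa using congrArg Subtype.val (hno _ hsq')))
        rw [sq] at h2 hs2
        rw [inv_eq_of_mul_eq_one_right hs2]
        apply eq_inv_of_mul_eq_one_left
        rw [← h2]; group
      have hcomm : ∀ q ∈ Q', ∀ r ∈ Q', q * r = r * q := by
        intro q hq r hr
        have e1 := hinvert _ (Q'.mul_mem hq hr)
        rw [show s * (q * r) * s⁻¹ = (s * q * s⁻¹) * (s * r * s⁻¹) by group, hinvert q hq,
          hinvert r hr, mul_inv_rev] at e1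
        exact inv_injective (by rw [mul_inv_rev, mul_inv_rev]; exact e1.symm)
      by_cases hall : ∀ q ∈ Q, q ^ 2 = 1
      · have hsub : (Q : Set G) ⊆ {1, u ^ 2} := by
          intro q hq
          by_cases hq1 : q = 1
          · exact Or.inl hq1
          · exact Or.inr (hinvol q hq (by rw [← sq, hall q hq]) hq1).1
        have h1 := Set.ncard_le_ncard hsub (Set.toFinite _)
        have h2 := Set.ncard_insert_le (1 : G) {u ^ 2}
        rw [Set.ncard_singleton] at h2
        rw [← Nat.card_coe_set_eq (Q : Set G), show Nat.card (Q : Set G) = 8 from hQ8] at h1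
        omega
      push Not at hall
      obtain ⟨q₀, hq₀, hq₀2⟩ := hall
      have hsqt : ∀ q ∈ Q, q ^ 2 ≠ 1 → q ^ 2 = u ^ 2 := fun q hq hne =>
        (hinvol _ (Q.pow_mem hq 2) (by rw [← pow_add, hQ4 q hq]) hne).1
      have hsub : (Q : Set G) ⊆ {1, u ^ 2, q₀, u ^ 2 * q₀} := by
        intro q hq
        by_cases hq1 : q = 1
        · exact Or.inl hq1
        by_cases hq2 : q ^ 2 = 1
        · exact Or.inr (Or.inl (hinvol q hq (by rw [← sq, hq2]) hq1).1)
        have hc : q * q₀⁻¹ = q₀⁻¹ * q := congrArg Subtype.val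
          (hcomm ⟨q, hQJ hq⟩ hq ⟨q₀⁻¹, hQJ (Q.inv_mem hq₀)⟩ (Q.inv_mem hq₀))
        have h3 : (q * q₀⁻¹) * (q * q₀⁻¹) = 1 := by
          calc (q * q₀⁻¹) * (q * q₀⁻¹) = q * (q₀⁻¹ * q) * q₀⁻¹ := by group
            _ = q * (q * q₀⁻¹) * q₀⁻¹ := by rw [hc]
            _ = q ^ 2 * (q₀ ^ 2)⁻¹ := by simp only [sq, mul_inv_rev, mul_assoc]
            _ = 1 := by rw [hsqt q hq hq2, hsqt q₀ hq₀ hq₀2, mul_inv_cancel]
        by_cases h4 : q * q₀⁻¹ = 1
        · exact Or.inr (Or.inr (Or.inl (mul_inv_eq_one.1 h4)))
        · refine Or.inr (Or.inr (Or.inr (Set.mem_singleton_iff.2 ?_)))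
          rw [← (hinvol _ (Q.mul_mem hq (Q.inv_mem hq₀)) h3 h4).1, inv_mul_cancel_right]
      have h1 := Set.ncard_le_ncard hsub (Set.toFinite _)
      have h2 := Set.ncard_insert_le (1 : G) {u ^ 2, q₀, u ^ 2 * q₀}
      have h3 := Set.ncard_insert_le (u ^ 2) ({q₀, u ^ 2 * q₀} : Set G)
      have h4 := Set.ncard_insert_le q₀ ({u ^ 2 * q₀} : Set G)
      rw [Set.ncard_singleton] at h4
      rw [← Nat.card_coe_set_eq (Q : Set G), show Nat.card (Q : Set G) = 8 from hQ8] at h1
      omega
    have hw8 : w ^ 8 = 1 := Subtype.ext (by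
      simpa [← pow_mul] using hQ4 _ (hsq w w.2))
    have hord : orderOf w = 8 :=
      orderOf_eq_prime_pow (p := 2) (n := 2) (by simpa using hw4) (by simpa using hw8)
    set W := Subgroup.zpowers w with hW
    have hWidx : W.index = 2 := by
      have h1 := W.index_mul_card
      rw [hW, Nat.card_zpowers, hord, hJ16] at h1
      rw [hW]; omega
    have hWn : W.Normal := Subgroup.normal_of_index_eq_two hWidx
    have hWQ : ∀ i : ℕ, w ^ i ∈ Q' → Even i := by
      intro i hi
      by_contra hodd
      obtain ⟨j, rfl⟩ := Nat.not_even_iff_odd.1 hodd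
      apply hwQ
      have h2 : w ^ (2 * j) ∈ Q' := by
        rw [pow_mul]; exact Q'.pow_mem (by simpa [hQ', Subgroup.mem_subgroupOf] using hsq w w.2) j
      rw [pow_succ] at hi
      simpa using Q'.mul_mem (Q'.inv_mem h2) hi
    have hWmem : ∀ g ∈ W, ∃ i : ℕ, w ^ i = g := fun g hg => by
      obtain ⟨i, -, hi⟩ := Finset.mem_image.1
        ((mem_zpowers_iff_mem_range_orderOf).1 hg)
      exact ⟨i, hi⟩
    have hWinvol : ∀ g : J, g ∈ W → g ^ 2 = 1 → g ∈ Q' := by
      intro g hg hg2
      obtain ⟨i, rfl⟩ := hWmem g hg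
      rw [← pow_mul, ← orderOf_dvd_iff_pow_eq_one, hord] at hg2
      obtain ⟨j, rfl⟩ : 2 ∣ i := by omega
      rw [pow_mul]
      exact Q'.pow_mem (by simpa [hQ', Subgroup.mem_subgroupOf] using hsq w w.2) j
    have hsW : s ∉ W := fun e => hsQ (hWinvol s e hs2)
    let M : Subgroup J :=
      { carrier := {g | g ∈ Q' ↔ g ∈ W}
        one_mem' := ⟨fun _ => W.one_mem, fun _ => Q'.one_mem⟩
        mul_mem' := fun {g g'} hg hg' => by
          show g * g' ∈ Q' ↔ g * g' ∈ W
          rw [Subgroup.mul_mem_iff_of_index_two hQidx, Subgroup.mul_mem_iff_of_index_two hWidx]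
          exact iff_congr hg hg'
        inv_mem' := fun {g} hg => by
          show g⁻¹ ∈ Q' ↔ g⁻¹ ∈ W
          rwa [inv_mem_iff, inv_mem_iff] }
    refine ⟨M, ?_, ?_, ?_⟩
    · rw [Subgroup.index_eq_two_iff]
      refine ⟨w, fun g => ?_⟩
      show Xor (g * w ∈ Q' ↔ g * w ∈ W) (g ∈ Q' ↔ g ∈ W)
      rw [Subgroup.mul_mem_iff_of_index_two hQidx, Subgroup.mul_mem_iff_of_index_two hWidx,
        iff_false_right hwQ, iff_true_right (Subgroup.mem_zpowers w)]
      unfold Xor
      tauto
    · intro g hg2
      show g ∈ Q' ↔ g ∈ W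
      refine ⟨fun hgQ => ?_, fun hgW => hWinvol g hgW hg2⟩
      by_cases hg1 : g = 1
      · rw [hg1]; exact W.one_mem
      have hw4Q : (w ^ 4 : J) ∈ Q' := by
        rw [show (4 : ℕ) = 2 * 2 from rfl, pow_mul]
        exact Q'.pow_mem (by simpa [hQ', Subgroup.mem_subgroupOf] using hsq w w.2) 2
      have e1 := (hinvol (g : G) hgQ (by
        have := congrArg Subtype.val hg2
        simpa [sq] using this) (fun e => hg1 (Subtype.ext e))).1
      have e2 := (hinvol ((w ^ 4 : J) : G) (Subgroup.mem_subgroupOf.1 hw4Q) (by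
        rw [← Subgroup.coe_mul, ← pow_add, hw8]; rfl) (fun e => hw4 (Subtype.ext e))).1
      rw [show g = w ^ 4 from Subtype.ext (e1.trans e2.symm)]
      exact W.pow_mem (Subgroup.mem_zpowers w) 4
    · intro g hg4 hgM
      have hgQ : g ∉ Q' := fun e => hg4 (Subtype.ext (by simpa using hQ4 _ e))
      have hgW : g ∉ W := fun e => hgQ ((show g ∈ Q' ↔ g ∈ W from hgM).2 e)
      have hgs : g * s ∈ Q' ∧ g * s ∈ W :=
        ⟨(Subgroup.mul_mem_iff_of_index_two hQidx).2 (iff_of_false hgQ hsQ),
          (Subgroup.mul_mem_iff_of_index_two hWidx).2 (iff_of_false hgW hsW)⟩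
      obtain ⟨i, hi⟩ := hWmem _ hgs.2
      obtain ⟨l, hl⟩ := hWQ i (hi ▸ hgs.1)
      obtain ⟨j, hj⟩ := hWmem _ (hWn.conj_mem w (Subgroup.mem_zpowers w) s)
      have hjodd : Odd j := by
        rw [← Nat.not_even_iff_odd]
        rintro ⟨m, rfl⟩
        apply hw4
        have h1 : s * w ^ 4 * s⁻¹ = 1 := by
          rw [← conj_pow, ← hj, ← pow_mul, show (m + m) * 4 = 8 * m by ring, pow_mul, hw8, one_pow]
        simpa using h1
      obtain ⟨m, rfl⟩ := hjodd
      have hss : s * s = 1 := by rw [← sq]; exact hs2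
      have hg' : g = w ^ i * s := by rw [hi, mul_assoc, hss, mul_one]
      apply hg4
      have h1 : g * g = w ^ (i + (2 * m + 1) * i) := by
        rw [hg', pow_add, pow_mul, hj, conj_pow, inv_eq_of_mul_eq_one_right hss]
        simp only [mul_assoc]
      rw [show (4 : ℕ) = 2 * 2 from rfl, pow_mul, sq g, h1, ← pow_mul, hl,
        show (l + l + (2 * m + 1) * (l + l)) * 2 = 8 * ((m + 1) * l) by ring, pow_mul, hw8, one_pow]
  have hMn : M.Normal := Subgroup.normal_of_index_eq_two hM2
  -- transfer
  let S : Sylow 2 G := Sylow.ofCard J (by rw [hJ16, h]; decide +kernel)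
  have hfoc : Subgroup.focalSubgroup J ≤ M.map J.subtype := by
    rw [Cfsg.Agent.Lib.Transfer.focalSubgroup_le_iff]
    intro y hy g hg
    refine ⟨(⟨y, hy⟩ : J)⁻¹ * ⟨g * y * g⁻¹, hg⟩, ?_, rfl⟩
    rw [SetLike.mem_coe, Subgroup.mul_mem_iff_of_index_two hM2, inv_mem_iff]
    set y' : J := ⟨y, hy⟩
    set z' : J := ⟨g * y * g⁻¹, hg⟩
    have hz : ∀ n : ℕ, z' ^ n = 1 ↔ y' ^ n = 1 := by
      intro n
      rw [← Subtype.coe_inj, ← Subtype.coe_inj (a := y' ^ n)]
      simp [y', z', conj_pow]
    by_cases h2 : y' ^ 2 = 1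
    · exact iff_of_true (hMin _ h2) (hMin _ ((hz 2).2 h2))
    by_cases h4 : y' ^ 4 = 1
    · have hyQ : y ∈ Q := by_contra fun e =>
        h2 (Subtype.ext (by simpa using hswap y hy e (by simpa using congrArg Subtype.val h4)))
      have hzQ : g * y * g⁻¹ ∈ Q := by_contra fun e =>
        (mt (hz 2).1 h2) (Subtype.ext
          (hswap _ hg e (congrArg Subtype.val ((hz 4).2 h4) : (g * y * g⁻¹) ^ 4 = 1)))
      have hz1 : g * y * g⁻¹ ≠ 1 := fun e => (mt (hz 2).1 h2) (by
        rw [show z' = 1 from Subtype.ext e, one_pow])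
      have hfix : ∀ c, (y : G) • c = c → g • c = a ∨ g • c = b := fun c hc =>
        hexact _ hzQ hz1 _ (by rw [mul_smul, mul_smul, inv_smul_smul, hc])
      have hgJ : g ∈ J := by
        rcases hfix a hyQ.1 with e | e <;> rcases hfix b hyQ.2 with e' | e'
        · exact absurd (MulAction.injective g (e.trans e'.symm)) hab
        · exact Or.inl ⟨e, e'⟩
        · exact Or.inr ⟨e, e'⟩
        · exact absurd (MulAction.injective g (e.trans e'.symm)) hab
      have hconj : z' = ⟨g, hgJ⟩ * y' * ⟨g, hgJ⟩⁻¹ := rfl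
      constructor
      · intro hy'; rw [hconj]; exact hMn.conj_mem _ hy' _
      · intro hz'
        have := hMn.conj_mem _ hz' ⟨g, hgJ⟩⁻¹
        rwa [hconj, show (⟨g, hgJ⟩ : J)⁻¹ * (⟨g, hgJ⟩ * y' * ⟨g, hgJ⟩⁻¹) * (⟨g, hgJ⟩ : J)⁻¹⁻¹ = y'
          by group] at this
    · exact iff_of_false (hMout _ h4) (hMout _ (mt (hz 4).1 h4))
  have hperf : commutator G = ⊤ := by
    refine (IsSimpleGroup.eq_bot_or_eq_top_of_normal (commutator G)
      (by rw [commutator_def]; infer_instance)).resolve_left fun e => not_comm h ?_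
    refine ⟨⟨fun x y => ?_⟩⟩
    have hm : ⁅x, y⁆ ∈ commutator G := by
      rw [commutator_def]; exact Subgroup.commutator_mem_commutator (Subgroup.mem_top x) (Subgroup.mem_top y)
    rw [e, Subgroup.mem_bot] at hm
    exact commutatorElement_eq_one_iff_mul_comm.1 hm
  have hle : J ≤ M.map J.subtype := by
    have h1 := Subgroup.commutator_inf_eq_focalSubgroup S
    rw [hperf, top_inf_eq] at h1
    exact (le_of_eq h1).trans hfoc
  have h2 := Subgroup.card_dvd_of_le hle
  rw [Subgroup.card_map_of_injective J.subtype_injective] at h2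
  have h3 := M.index_mul_card
  rw [hM2] at h3
  have := Nat.le_of_dvd Nat.card_pos h2
  have : 0 < Nat.card M := Nat.card_pos
  omega

/-- No simple group has order 720. -/
theorem card_ne : Nat.card G ≠ 720 := by
  intro h
  haveI : Fact (Nat.Prime 3) := ⟨by norm_num⟩
  have hc : Nat.card G = 3 ^ 2 * 80 := by rw [h]; norm_num
  let P : Sylow 3 G := default
  set N := Subgroup.normalizer ((P : Subgroup G) : Set G) with hN
  have hidx : N.index = Nat.card (Sylow 3 G) := by
    rw [hN, Sylow.card_eq_index_normalizer P, P.coe_coe]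
  have hNt : N ≠ ⊤ := normalizer_ne_top P (sylow_count_ne_one hc (by norm_num) (by norm_num) (by norm_num))
  have hmul := N.index_mul_card
  rw [h, hidx] at hmul
  have hn := sylow_count_candidates hc (by norm_num) (by norm_num) (by norm_num)
  rw [show candidates 3 80 = {4, 10, 16, 40} by decide +kernel] at hn
  simp only [Finset.mem_insert, Finset.mem_singleton] at hn
  rcases hn with e | e | e | e
  · have := index_bound h hNt
    omega
  · exact no_index_ten h N (hidx.trans e)
  · rw [e] at hmul
    exact (card_ne_45 h N).1 (by omega)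
  -- forty Sylow subgroups
  have hN18 : Nat.card N = 18 := by rw [e] at hmul; omega
  obtain ⟨K, hKt, hK⟩ := exists_index_of_intersection hc (by norm_num) (by norm_num)
    (by rw [e]; norm_num)
  have hKge := index_bound h hKt
  have hKmul := K.index_mul_card
  rw [h] at hKmul
  rw [show interIndices 3 80 = {2, 4, 5, 8, 10, 20} by decide +kernel] at hK
  simp only [Finset.mem_insert, Finset.mem_singleton] at hK
  obtain hK' | hK' | hK' : K.index = 8 ∨ K.index = 10 ∨ K.index = 20 := by omega
  · rw [hK'] at hKmul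
    exact (card_ne_45 h K).2 (by omega)
  · exact no_index_ten h K hK'
  -- a subgroup of order 36 normalizes a subgroup of order four
  have hK36 : Nat.card K = 3 ^ 2 * 4 := by rw [hK'] at hKmul; omega
  let PK : Sylow 3 K := default
  have hPKcard : Nat.card (PK : Subgroup K) = 9 := by
    rw [sylow_card hK36 (by norm_num) PK]; norm_num
  set NK := Subgroup.normalizer ((PK : Subgroup K) : Set K) with hNK
  have hn4 : Nat.card (Sylow 3 K) = 4 := by
    have h1 := sylow_count_mem hK36 (by norm_num)
    rw [show ((4 : ℕ).divisors.filter fun d => d % 3 = 1) = {1, 4} by decide +kernel] at h1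
    simp only [Finset.mem_insert, Finset.mem_singleton] at h1
    refine h1.resolve_left fun e1 => ?_
    -- otherwise `K` normalizes a Sylow subgroup of the whole group
    obtain ⟨P', hP'⟩ := (PK.2.map K.subtype).exists_le_sylow
    have heq : (PK : Subgroup K).map K.subtype = P' := by
      refine Subgroup.eq_of_le_of_card_ge hP' ?_
      rw [Subgroup.card_map_of_injective K.subtype_injective, hPKcard,
        sylow_card hc (by norm_num) P']
      norm_num
    have hnt : NK = ⊤ := by
      rw [← Subgroup.index_eq_one, hNK, PK.coe_coe, ← PK.card_eq_index_normalizer, e1]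
    have hKN : K ≤ Subgroup.normalizer ((P' : Subgroup G) : Set G) := by
      intro k hk
      rw [← heq]
      refine Subgroup.le_normalizer_map K.subtype ⟨⟨k, hk⟩, ?_, rfl⟩
      rw [← hNK, hnt]; exact Subgroup.mem_top _
    have h2 := Subgroup.card_dvd_of_le hKN
    have h3 : Nat.card (Subgroup.normalizer ((P' : Subgroup G) : Set G)) = 18 := by
      have h4 := (Subgroup.normalizer ((P' : Subgroup G) : Set G)).index_mul_card
      rw [P'.coe_coe, ← P'.card_eq_index_normalizer, e, h] at h4
      rw [P'.coe_coe]; omega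
    rw [h3, hK36] at h2
    norm_num at h2
  have hNKeq : NK ≤ Subgroup.centralizer ((PK : Subgroup K) : Set K) := by
    have h1 : NK = (PK : Subgroup K) := by
      refine (Subgroup.eq_of_le_of_card_ge Subgroup.le_normalizer ?_).symm
      have h2 := NK.index_mul_card
      have h3 : NK.index = 4 := by rw [hNK, PK.coe_coe, ← PK.card_eq_index_normalizer, hn4]
      rw [h3, hK36] at h2
      rw [hPKcard, ← hNK]
      omega
    rw [h1]
    haveI : IsMulCommutative (PK : Subgroup K) :=
      IsPGroup.isMulCommutative_of_card_eq_prime_sq (p := 3) (by rw [hPKcard]; norm_num)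
    exact Subgroup.le_centralizer _
  set V := (MonoidHom.transferSylow PK hNKeq).ker with hV
  have hV4 : Nat.card V = 4 := by
    have h1 := (MonoidHom.ker_transferSylow_isComplement' PK hNKeq).card_mul_card
    rw [← hV, hPKcard, hK36] at h1
    omega
  set V' := V.map K.subtype with hV'
  have hV'4 : Nat.card V' = 4 := by rw [hV', Subgroup.card_map_of_injective K.subtype_injective, hV4]
  have hKV : K ≤ Subgroup.normalizer (V' : Set G) := by
    intro k hk
    refine Subgroup.le_normalizer_map K.subtype ⟨⟨k, hk⟩, ?_, rfl⟩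
    rw [Subgroup.normalizer_eq_top_iff.2 (MonoidHom.normal_ker _)]
    exact Subgroup.mem_top _
  -- a larger two-subgroup normalizes it
  haveI : Fact (Nat.Prime 2) := ⟨Nat.prime_two⟩
  set L := Subgroup.normalizer (V' : Set G) with hL
  have h8 : 2 ^ 3 ∣ Nat.card L := by
    obtain ⟨T, hT⟩ := Sylow.exists_subgroup_card_pow_succ (p := 2) (n := 2)
      (show 2 ^ (2 + 1) ∣ Nat.card G by rw [h]; norm_num) (H := V') (by rw [hV'4]; norm_num)
    obtain ⟨hT1, hT2⟩ := hT
    rw [show 2 ^ 3 = 2 ^ (2 + 1) from rfl, ← hT1]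
    exact Subgroup.card_dvd_of_le ((Subgroup.normal_subgroupOf_iff_le_normalizer hT2).1
      (Subgroup.normal_of_index_eq_two (by
        have h5 := (V'.subgroupOf T).index_mul_card
        rw [Nat.card_congr (Subgroup.subgroupOfEquivOfLe hT2).toEquiv, hV'4, hT1] at h5
        omega)))
  have hLt : L ≠ ⊤ := by
    intro e'
    rw [hL, Subgroup.normalizer_eq_top_iff] at e'
    rcases IsSimpleGroup.eq_bot_or_eq_top_of_normal V' e' with e'' | e''
    · rw [e'', Subgroup.card_bot] at hV'4; omega
    · rw [e'', Subgroup.card_top, h] at hV'4; omega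
  have h72 : 72 ∣ Nat.card L :=
    (show Nat.Coprime (2 ^ 3) 9 by norm_num).mul_dvd_of_dvd_of_dvd h8
      ((show 9 ∣ Nat.card K by rw [hK36]; norm_num).trans (Subgroup.card_dvd_of_le hKV))
  have hLmul := L.index_mul_card
  obtain ⟨r, hr⟩ := h72
  rw [h, hr] at hLmul
  have hLge := index_bound h hLt
  have hd : L.index ∣ 10 := ⟨r, by linarith⟩
  have := Nat.le_of_dvd (by norm_num) hd
  exact no_index_ten h L (by interval_cases L.index <;> omega)

end Cfsg.Agent.Lib.SimpleBelow1092.Order720
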