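import Cfsg.Agent.Lib.SylowCounting.DegreeKill
import Cfsg.Agent.Lib.SylowCounting.FourPrimes
import Cfsg.Agent.Lib.Characters.Burnside

/-!
# A sieve for the orders of simple groups up to 1092

Every order is ruled out by the two prime theorem of Burnside, transfer at the smallest prime,
Sylow counting, or is one of nine orders treated separately.
-/

set_option autoImplicit false

namespace Cfsg.Agent.Lib.SimpleBelow1092

open Cfsg.Agent.Lib.SylowCounting

/-- A reason for a number not to be the order of a simple group. -/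
inductive Cert where
  | burn (n p q a b : ℕ)
  | small1 (n p : ℕ)
  | small2 (n p : ℕ)
  | exc (n p : ℕ)
  | emb (n p k : ℕ)
  | inter (n p k : ℕ)
  | todo (n : ℕ)

def Cert.order : Cert → ℕ
  | .burn n _ _ _ _ => n
  | .small1 n _ => n
  | .small2 n _ => n
  | .exc n _ => n
  | .emb n _ _ => n
  | .inter n _ _ => n
  | .todo n => n

/-- Trial division up to 34. -/
def primeB (p : ℕ) : Bool :=
  decide (2 ≤ p) && decide (p < 34 * 34) &&
    (List.range 34).all (fun d => decide (d < 2 ∨ p < d * d ∨ p % d ≠ 0))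

/-- No divisor of `m` in `[2, p]`. -/
def aboveB (p m : ℕ) : Bool :=
  (List.range (p + 1)).all (fun q => decide (q < 2 ∨ m % q ≠ 0))

def badIndex (n i : ℕ) : Prop := i < 20 ∧ ¬ 2 * n ∣ i.factorial

instance (n i : ℕ) : Decidable (badIndex n i) := instDecidableAnd

def interOK (n p k : ℕ) : Prop :=
  2 ≤ k ∧ (∀ r ∈ candidates p (n / p ^ k), r % p ^ 2 ≠ 1 ∨ badIndex n r) ∧
    ∀ i ∈ interIndices p (n / p ^ k), badIndex n i

instance (n p k : ℕ) : Decidable (interOK n p k) := instDecidableAnd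

def Cert.check : Cert → Bool
  | .burn n p q a b => primeB p && primeB q && decide (n = p ^ a * q ^ b)
  | .small1 n p => primeB p && decide (n = p ^ 1 * (n / p) ∧ n / p ≠ 1) && aboveB p (n / p)
  | .small2 n p => primeB p && decide (n = p ^ 2 * (n / p ^ 2) ∧ ¬ (p = 2 ∧ (n / p ^ 2) % 3 = 0))
      && aboveB p (n / p ^ 2)
  | .exc n p => primeB p && decide (n = p ^ 1 * (n / p) ∧ ¬ p ∣ n / p ∧ n / p ≠ 1 ∧ p ≠ 2 ∧
      ∀ r ∈ candidates p (n / p), SylowExcluded n p 34 r)
  | .emb n p k => primeB p && decide (n = p ^ k * (n / p ^ k) ∧ ¬ p ∣ n / p ^ k ∧ k ≠ 0 ∧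
      n / p ^ k ≠ 1 ∧ ∀ r ∈ candidates p (n / p ^ k), badIndex n r)
  | .inter n p k => primeB p && decide (n = p ^ k * (n / p ^ k) ∧ ¬ p ∣ n / p ^ k ∧
      n / p ^ k ≠ 1 ∧ interOK n p k)
  | .todo n => decide (n ∈ [60, 168, 360, 504, 660, 720, 756, 1080, 1092])

/-- One certificate for each order. -/
def certs0 : List Cert := [
  .burn 2 2 2 1 0, .burn 3 3 3 1 0, .burn 4 2 2 2 0, .burn 5 5 5 1 0, .burn 6 2 3 1 1,
  .burn 7 7 7 1 0, .burn 8 2 2 3 0, .burn 9 3 3 2 0, .burn 10 2 5 1 1, .burn 11 11 11 1 0,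
  .burn 12 2 3 2 1, .burn 13 13 13 1 0, .burn 14 2 7 1 1, .burn 15 3 5 1 1, .burn 16 2 2 4 0,
  .burn 17 17 17 1 0, .burn 18 2 3 1 2, .burn 19 19 19 1 0, .burn 20 2 5 2 1, .burn 21 3 7 1 1,
  .burn 22 2 11 1 1, .burn 23 23 23 1 0, .burn 24 2 3 3 1, .burn 25 5 5 2 0, .burn 26 2 13 1 1,
  .burn 27 3 3 3 0, .burn 28 2 7 2 1, .burn 29 29 29 1 0, .small1 30 2, .burn 31 31 31 1 0,
  .burn 32 2 2 5 0, .burn 33 3 11 1 1, .burn 34 2 17 1 1, .burn 35 5 7 1 1, .burn 36 2 3 2 2,
  .burn 37 37 37 1 0, .burn 38 2 19 1 1, .burn 39 3 13 1 1, .burn 40 2 5 3 1, .burn 41 41 41 1 0,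
  .small1 42 2, .burn 43 43 43 1 0, .burn 44 2 11 2 1, .burn 45 3 5 2 1, .burn 46 2 23 1 1,
  .burn 47 47 47 1 0, .burn 48 2 3 4 1, .burn 49 7 7 2 0, .burn 50 2 5 1 2, .burn 51 3 17 1 1,
  .burn 52 2 13 2 1, .burn 53 53 53 1 0, .burn 54 2 3 1 3, .burn 55 5 11 1 1, .burn 56 2 7 3 1,
  .burn 57 3 19 1 1, .burn 58 2 29 1 1, .burn 59 59 59 1 0, .todo 60, .burn 61 61 61 1 0,
  .burn 62 2 31 1 1, .burn 63 3 7 2 1, .burn 64 2 2 6 0, .burn 65 5 13 1 1, .small1 66 2,
  .burn 67 67 67 1 0, .burn 68 2 17 2 1, .burn 69 3 23 1 1, .small1 70 2, .burn 71 71 71 1 0,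
  .burn 72 2 3 3 2, .burn 73 73 73 1 0, .burn 74 2 37 1 1, .burn 75 3 5 1 2, .burn 76 2 19 2 1,
  .burn 77 7 11 1 1, .small1 78 2, .burn 79 79 79 1 0, .burn 80 2 5 4 1, .burn 81 3 3 4 0,
  .burn 82 2 41 1 1, .burn 83 83 83 1 0, .exc 84 7, .burn 85 5 17 1 1, .burn 86 2 43 1 1,
  .burn 87 3 29 1 1, .burn 88 2 11 3 1, .burn 89 89 89 1 0, .small1 90 2, .burn 91 7 13 1 1,
  .burn 92 2 23 2 1, .burn 93 3 31 1 1, .burn 94 2 47 1 1, .burn 95 5 19 1 1, .burn 96 2 3 5 1,
  .burn 97 97 97 1 0, .burn 98 2 7 1 2, .burn 99 3 11 2 1, .burn 100 2 5 2 2, .burn 101 101 101 1 0]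

def certs1 : List Cert := [
  .small1 102 2, .burn 103 103 103 1 0, .burn 104 2 13 3 1, .small1 105 3, .burn 106 2 53 1 1,
  .burn 107 107 107 1 0, .burn 108 2 3 2 3, .burn 109 109 109 1 0, .small1 110 2, .burn 111 3 37 1 1,
  .burn 112 2 7 4 1, .burn 113 113 113 1 0, .small1 114 2, .burn 115 5 23 1 1, .burn 116 2 29 2 1,
  .burn 117 3 13 2 1, .burn 118 2 59 1 1, .burn 119 7 17 1 1, .exc 120 5, .burn 121 11 11 2 0,
  .burn 122 2 61 1 1, .burn 123 3 41 1 1, .burn 124 2 31 2 1, .burn 125 5 5 3 0, .small1 126 2,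
  .burn 127 127 127 1 0, .burn 128 2 2 7 0, .burn 129 3 43 1 1, .small1 130 2, .burn 131 131 131 1 0,
  .exc 132 11, .burn 133 7 19 1 1, .burn 134 2 67 1 1, .burn 135 3 5 3 1, .burn 136 2 17 3 1,
  .burn 137 137 137 1 0, .small1 138 2, .burn 139 139 139 1 0, .small2 140 2, .burn 141 3 47 1 1,
  .burn 142 2 71 1 1, .burn 143 11 13 1 1, .burn 144 2 3 4 2, .burn 145 5 29 1 1, .burn 146 2 73 1 1,
  .burn 147 3 7 1 2, .burn 148 2 37 2 1, .burn 149 149 149 1 0, .small1 150 2, .burn 151 151 151 1 0,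
  .burn 152 2 19 3 1, .burn 153 3 17 2 1, .small1 154 2, .burn 155 5 31 1 1, .exc 156 13,
  .burn 157 157 157 1 0, .burn 158 2 79 1 1, .burn 159 3 53 1 1, .burn 160 2 5 5 1, .burn 161 7 23 1 1,
  .burn 162 2 3 1 4, .burn 163 163 163 1 0, .burn 164 2 41 2 1, .small1 165 3, .burn 166 2 83 1 1,
  .burn 167 167 167 1 0, .todo 168, .burn 169 13 13 2 0, .small1 170 2, .burn 171 3 19 2 1,
  .burn 172 2 43 2 1, .burn 173 173 173 1 0, .small1 174 2, .burn 175 5 7 2 1, .burn 176 2 11 4 1,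
  .burn 177 3 59 1 1, .burn 178 2 89 1 1, .burn 179 179 179 1 0, .exc 180 5, .burn 181 181 181 1 0,
  .small1 182 2, .burn 183 3 61 1 1, .burn 184 2 23 3 1, .burn 185 5 37 1 1, .small1 186 2,
  .burn 187 11 17 1 1, .burn 188 2 47 2 1, .burn 189 3 7 3 1, .small1 190 2, .burn 191 191 191 1 0,
  .burn 192 2 3 6 1, .burn 193 193 193 1 0, .burn 194 2 97 1 1, .small1 195 3, .burn 196 2 7 2 2,
  .burn 197 197 197 1 0, .small1 198 2, .burn 199 199 199 1 0, .burn 200 2 5 3 2, .burn 201 3 67 1 1]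

def certs2 : List Cert := [
  .burn 202 2 101 1 1, .burn 203 7 29 1 1, .exc 204 17, .burn 205 5 41 1 1, .burn 206 2 103 1 1,
  .burn 207 3 23 2 1, .burn 208 2 13 4 1, .burn 209 11 19 1 1, .small1 210 2, .burn 211 211 211 1 0,
  .burn 212 2 53 2 1, .burn 213 3 71 1 1, .burn 214 2 107 1 1, .burn 215 5 43 1 1, .burn 216 2 3 3 3,
  .burn 217 7 31 1 1, .burn 218 2 109 1 1, .burn 219 3 73 1 1, .small2 220 2, .burn 221 13 17 1 1,
  .small1 222 2, .burn 223 223 223 1 0, .burn 224 2 7 5 1, .burn 225 3 5 2 2, .burn 226 2 113 1 1,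
  .burn 227 227 227 1 0, .exc 228 19, .burn 229 229 229 1 0, .small1 230 2, .small1 231 3,
  .burn 232 2 29 3 1, .burn 233 233 233 1 0, .small1 234 2, .burn 235 5 47 1 1, .burn 236 2 59 2 1,
  .burn 237 3 79 1 1, .small1 238 2, .burn 239 239 239 1 0, .exc 240 5, .burn 241 241 241 1 0,
  .burn 242 2 11 1 2, .burn 243 3 3 5 0, .burn 244 2 61 2 1, .burn 245 5 7 1 2, .small1 246 2,
  .burn 247 13 19 1 1, .burn 248 2 31 3 1, .burn 249 3 83 1 1, .burn 250 2 5 1 3, .burn 251 251 251 1 0,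
  .exc 252 7, .burn 253 11 23 1 1, .burn 254 2 127 1 1, .small1 255 3, .burn 256 2 2 8 0,
  .burn 257 257 257 1 0, .small1 258 2, .burn 259 7 37 1 1, .small2 260 2, .burn 261 3 29 2 1,
  .burn 262 2 131 1 1, .burn 263 263 263 1 0, .exc 264 11, .burn 265 5 53 1 1, .small1 266 2,
  .burn 267 3 89 1 1, .burn 268 2 67 2 1, .burn 269 269 269 1 0, .small1 270 2, .burn 271 271 271 1 0,
  .burn 272 2 17 4 1, .small1 273 3, .burn 274 2 137 1 1, .burn 275 5 11 2 1, .exc 276 23,
  .burn 277 277 277 1 0, .burn 278 2 139 1 1, .burn 279 3 31 2 1, .exc 280 5, .burn 281 281 281 1 0,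
  .small1 282 2, .burn 283 283 283 1 0, .burn 284 2 71 2 1, .small1 285 3, .small1 286 2,
  .burn 287 7 41 1 1, .burn 288 2 3 5 2, .burn 289 17 17 2 0, .small1 290 2, .burn 291 3 97 1 1,
  .burn 292 2 73 2 1, .burn 293 293 293 1 0, .small1 294 2, .burn 295 5 59 1 1, .burn 296 2 37 3 1,
  .burn 297 3 11 3 1, .burn 298 2 149 1 1, .burn 299 13 23 1 1, .emb 300 5 2, .burn 301 7 43 1 1]

def certs3 : List Cert := [
  .burn 302 2 151 1 1, .burn 303 3 101 1 1, .burn 304 2 19 4 1, .burn 305 5 61 1 1, .small1 306 2,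
  .burn 307 307 307 1 0, .small2 308 2, .burn 309 3 103 1 1, .small1 310 2, .burn 311 311 311 1 0,
  .exc 312 13, .burn 313 313 313 1 0, .burn 314 2 157 1 1, .small2 315 3, .burn 316 2 79 2 1,
  .burn 317 317 317 1 0, .small1 318 2, .burn 319 11 29 1 1, .burn 320 2 5 6 1, .burn 321 3 107 1 1,
  .small1 322 2, .burn 323 17 19 1 1, .burn 324 2 3 2 4, .burn 325 5 13 2 1, .burn 326 2 163 1 1,
  .burn 327 3 109 1 1, .burn 328 2 41 3 1, .burn 329 7 47 1 1, .small1 330 2, .burn 331 331 331 1 0,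
  .burn 332 2 83 2 1, .burn 333 3 37 2 1, .burn 334 2 167 1 1, .burn 335 5 67 1 1, .exc 336 7,
  .burn 337 337 337 1 0, .burn 338 2 13 1 2, .burn 339 3 113 1 1, .small2 340 2, .burn 341 11 31 1 1,
  .small1 342 2, .burn 343 7 7 3 0, .burn 344 2 43 3 1, .small1 345 3, .burn 346 2 173 1 1,
  .burn 347 347 347 1 0, .exc 348 29, .burn 349 349 349 1 0, .small1 350 2, .burn 351 3 13 3 1,
  .burn 352 2 11 5 1, .burn 353 353 353 1 0, .small1 354 2, .burn 355 5 71 1 1, .burn 356 2 89 2 1,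
  .small1 357 3, .burn 358 2 179 1 1, .burn 359 359 359 1 0, .todo 360, .burn 361 19 19 2 0,
  .burn 362 2 181 1 1, .burn 363 3 11 1 2, .small2 364 2, .burn 365 5 73 1 1, .small1 366 2,
  .burn 367 367 367 1 0, .burn 368 2 23 4 1, .burn 369 3 41 2 1, .small1 370 2, .burn 371 7 53 1 1,
  .exc 372 31, .burn 373 373 373 1 0, .small1 374 2, .burn 375 3 5 1 3, .burn 376 2 47 3 1,
  .burn 377 13 29 1 1, .small1 378 2, .burn 379 379 379 1 0, .small2 380 2, .burn 381 3 127 1 1,
  .burn 382 2 191 1 1, .burn 383 383 383 1 0, .burn 384 2 3 7 1, .small1 385 5, .burn 386 2 193 1 1,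
  .burn 387 3 43 2 1, .burn 388 2 97 2 1, .burn 389 389 389 1 0, .small1 390 2, .burn 391 17 23 1 1,
  .burn 392 2 7 3 2, .burn 393 3 131 1 1, .burn 394 2 197 1 1, .burn 395 5 79 1 1, .exc 396 11,
  .burn 397 397 397 1 0, .burn 398 2 199 1 1, .small1 399 3, .burn 400 2 5 4 2, .burn 401 401 401 1 0]

def certs4 : List Cert := [
  .small1 402 2, .burn 403 13 31 1 1, .burn 404 2 101 2 1, .burn 405 3 5 4 1, .small1 406 2,
  .burn 407 11 37 1 1, .exc 408 17, .burn 409 409 409 1 0, .small1 410 2, .burn 411 3 137 1 1,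
  .burn 412 2 103 2 1, .burn 413 7 59 1 1, .small1 414 2, .burn 415 5 83 1 1, .burn 416 2 13 5 1,
  .burn 417 3 139 1 1, .small1 418 2, .burn 419 419 419 1 0, .exc 420 7, .burn 421 421 421 1 0,
  .burn 422 2 211 1 1, .burn 423 3 47 2 1, .burn 424 2 53 3 1, .burn 425 5 17 2 1, .small1 426 2,
  .burn 427 7 61 1 1, .burn 428 2 107 2 1, .small1 429 3, .small1 430 2, .burn 431 431 431 1 0,
  .burn 432 2 3 4 3, .burn 433 433 433 1 0, .small1 434 2, .small1 435 3, .burn 436 2 109 2 1,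
  .burn 437 19 23 1 1, .small1 438 2, .burn 439 439 439 1 0, .exc 440 11, .burn 441 3 7 2 2,
  .small1 442 2, .burn 443 443 443 1 0, .exc 444 37, .burn 445 5 89 1 1, .burn 446 2 223 1 1,
  .burn 447 3 149 1 1, .burn 448 2 7 6 1, .burn 449 449 449 1 0, .small1 450 2, .burn 451 11 41 1 1,
  .burn 452 2 113 2 1, .burn 453 3 151 1 1, .burn 454 2 227 1 1, .small1 455 5, .exc 456 19,
  .burn 457 457 457 1 0, .burn 458 2 229 1 1, .burn 459 3 17 3 1, .small2 460 2, .burn 461 461 461 1 0,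
  .small1 462 2, .burn 463 463 463 1 0, .burn 464 2 29 4 1, .small1 465 3, .burn 466 2 233 1 1,
  .burn 467 467 467 1 0, .exc 468 13, .burn 469 7 67 1 1, .small1 470 2, .burn 471 3 157 1 1,
  .burn 472 2 59 3 1, .burn 473 11 43 1 1, .small1 474 2, .burn 475 5 19 2 1, .small2 476 2,
  .burn 477 3 53 2 1, .burn 478 2 239 1 1, .burn 479 479 479 1 0, .inter 480 2 5, .burn 481 13 37 1 1,
  .burn 482 2 241 1 1, .small1 483 3, .burn 484 2 11 2 2, .burn 485 5 97 1 1, .burn 486 2 3 1 5,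
  .burn 487 487 487 1 0, .burn 488 2 61 3 1, .burn 489 3 163 1 1, .small1 490 2, .burn 491 491 491 1 0,
  .exc 492 41, .burn 493 17 29 1 1, .small1 494 2, .small2 495 3, .burn 496 2 31 4 1,
  .burn 497 7 71 1 1, .small1 498 2, .burn 499 499 499 1 0, .burn 500 2 5 2 3, .burn 501 3 167 1 1]

def certs5 : List Cert := [
  .burn 502 2 251 1 1, .burn 503 503 503 1 0, .todo 504, .burn 505 5 101 1 1, .small1 506 2,
  .burn 507 3 13 1 2, .burn 508 2 127 2 1, .burn 509 509 509 1 0, .small1 510 2, .burn 511 7 73 1 1,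
  .burn 512 2 2 9 0, .burn 513 3 19 3 1, .burn 514 2 257 1 1, .burn 515 5 103 1 1, .exc 516 43,
  .burn 517 11 47 1 1, .small1 518 2, .burn 519 3 173 1 1, .exc 520 13, .burn 521 521 521 1 0,
  .small1 522 2, .burn 523 523 523 1 0, .burn 524 2 131 2 1, .small1 525 3, .burn 526 2 263 1 1,
  .burn 527 17 31 1 1, .exc 528 11, .burn 529 23 23 2 0, .small1 530 2, .burn 531 3 59 2 1,
  .small2 532 2, .burn 533 13 41 1 1, .small1 534 2, .burn 535 5 107 1 1, .burn 536 2 67 3 1,
  .burn 537 3 179 1 1, .burn 538 2 269 1 1, .burn 539 7 11 2 1, .exc 540 5, .burn 541 541 541 1 0,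
  .burn 542 2 271 1 1, .burn 543 3 181 1 1, .burn 544 2 17 5 1, .burn 545 5 109 1 1, .small1 546 2,
  .burn 547 547 547 1 0, .burn 548 2 137 2 1, .burn 549 3 61 2 1, .small1 550 2, .burn 551 19 29 1 1,
  .exc 552 23, .burn 553 7 79 1 1, .burn 554 2 277 1 1, .small1 555 3, .burn 556 2 139 2 1,
  .burn 557 557 557 1 0, .small1 558 2, .burn 559 13 43 1 1, .exc 560 7, .small1 561 3,
  .burn 562 2 281 1 1, .burn 563 563 563 1 0, .exc 564 47, .burn 565 5 113 1 1, .burn 566 2 283 1 1,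
  .burn 567 3 7 4 1, .burn 568 2 71 3 1, .burn 569 569 569 1 0, .small1 570 2, .burn 571 571 571 1 0,
  .small2 572 2, .burn 573 3 191 1 1, .small1 574 2, .burn 575 5 23 2 1, .burn 576 2 3 6 2,
  .burn 577 577 577 1 0, .burn 578 2 17 1 2, .burn 579 3 193 1 1, .small2 580 2, .burn 581 7 83 1 1,
  .small1 582 2, .burn 583 11 53 1 1, .burn 584 2 73 3 1, .small2 585 3, .burn 586 2 293 1 1,
  .burn 587 587 587 1 0, .emb 588 7 2, .burn 589 19 31 1 1, .small1 590 2, .burn 591 3 197 1 1,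
  .burn 592 2 37 4 1, .burn 593 593 593 1 0, .small1 594 2, .small1 595 5, .burn 596 2 149 2 1,
  .burn 597 3 199 1 1, .small1 598 2, .burn 599 599 599 1 0, .emb 600 5 2, .burn 601 601 601 1 0]

def certs6 : List Cert := [
  .small1 602 2, .burn 603 3 67 2 1, .burn 604 2 151 2 1, .burn 605 5 11 1 2, .small1 606 2,
  .burn 607 607 607 1 0, .burn 608 2 19 5 1, .small1 609 3, .small1 610 2, .burn 611 13 47 1 1,
  .exc 612 17, .burn 613 613 613 1 0, .burn 614 2 307 1 1, .small1 615 3, .exc 616 7,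
  .burn 617 617 617 1 0, .small1 618 2, .burn 619 619 619 1 0, .small2 620 2, .burn 621 3 23 3 1,
  .burn 622 2 311 1 1, .burn 623 7 89 1 1, .exc 624 13, .burn 625 5 5 4 0, .burn 626 2 313 1 1,
  .small1 627 3, .burn 628 2 157 2 1, .burn 629 17 37 1 1, .small1 630 2, .burn 631 631 631 1 0,
  .burn 632 2 79 3 1, .burn 633 3 211 1 1, .burn 634 2 317 1 1, .burn 635 5 127 1 1, .exc 636 53,
  .burn 637 7 13 2 1, .small1 638 2, .burn 639 3 71 2 1, .burn 640 2 5 7 1, .burn 641 641 641 1 0,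
  .small1 642 2, .burn 643 643 643 1 0, .small2 644 2, .small1 645 3, .small1 646 2,
  .burn 647 647 647 1 0, .burn 648 2 3 3 4, .burn 649 11 59 1 1, .small1 650 2, .small1 651 3,
  .burn 652 2 163 2 1, .burn 653 653 653 1 0, .small1 654 2, .burn 655 5 131 1 1, .burn 656 2 41 4 1,
  .burn 657 3 73 2 1, .small1 658 2, .burn 659 659 659 1 0, .todo 660, .burn 661 661 661 1 0,
  .burn 662 2 331 1 1, .small1 663 3, .burn 664 2 83 3 1, .small1 665 5, .small1 666 2,
  .burn 667 23 29 1 1, .burn 668 2 167 2 1, .burn 669 3 223 1 1, .small1 670 2, .burn 671 11 61 1 1,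
  .exc 672 7, .burn 673 673 673 1 0, .burn 674 2 337 1 1, .burn 675 3 5 3 2, .burn 676 2 13 2 2,
  .burn 677 677 677 1 0, .small1 678 2, .burn 679 7 97 1 1, .exc 680 5, .burn 681 3 227 1 1,
  .small1 682 2, .burn 683 683 683 1 0, .exc 684 19, .burn 685 5 137 1 1, .burn 686 2 7 1 3,
  .burn 687 3 229 1 1, .burn 688 2 43 4 1, .burn 689 13 53 1 1, .small1 690 2, .burn 691 691 691 1 0,
  .burn 692 2 173 2 1, .small2 693 3, .burn 694 2 347 1 1, .burn 695 5 139 1 1, .exc 696 29,
  .burn 697 17 41 1 1, .burn 698 2 349 1 1, .burn 699 3 233 1 1, .small2 700 2, .burn 701 701 701 1 0]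

def certs7 : List Cert := [
  .small1 702 2, .burn 703 19 37 1 1, .burn 704 2 11 6 1, .small1 705 3, .burn 706 2 353 1 1,
  .burn 707 7 101 1 1, .exc 708 59, .burn 709 709 709 1 0, .small1 710 2, .burn 711 3 79 2 1,
  .burn 712 2 89 3 1, .burn 713 23 31 1 1, .small1 714 2, .small1 715 5, .burn 716 2 179 2 1,
  .burn 717 3 239 1 1, .burn 718 2 359 1 1, .burn 719 719 719 1 0, .todo 720, .burn 721 7 103 1 1,
  .burn 722 2 19 1 2, .burn 723 3 241 1 1, .burn 724 2 181 2 1, .burn 725 5 29 2 1, .small1 726 2,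
  .burn 727 727 727 1 0, .exc 728 7, .burn 729 3 3 6 0, .small1 730 2, .burn 731 17 43 1 1,
  .exc 732 61, .burn 733 733 733 1 0, .burn 734 2 367 1 1, .small1 735 3, .burn 736 2 23 5 1,
  .burn 737 11 67 1 1, .small1 738 2, .burn 739 739 739 1 0, .small2 740 2, .small1 741 3,
  .small1 742 2, .burn 743 743 743 1 0, .exc 744 31, .burn 745 5 149 1 1, .burn 746 2 373 1 1,
  .burn 747 3 83 2 1, .small2 748 2, .burn 749 7 107 1 1, .small1 750 2, .burn 751 751 751 1 0,
  .burn 752 2 47 4 1, .burn 753 3 251 1 1, .small1 754 2, .burn 755 5 151 1 1, .todo 756,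
  .burn 757 757 757 1 0, .burn 758 2 379 1 1, .small1 759 3, .exc 760 19, .burn 761 761 761 1 0,
  .small1 762 2, .burn 763 7 109 1 1, .burn 764 2 191 2 1, .small2 765 3, .burn 766 2 383 1 1,
  .burn 767 13 59 1 1, .burn 768 2 3 8 1, .burn 769 769 769 1 0, .small1 770 2, .burn 771 3 257 1 1,
  .burn 772 2 193 2 1, .burn 773 773 773 1 0, .small1 774 2, .burn 775 5 31 2 1, .burn 776 2 97 3 1,
  .small1 777 3, .burn 778 2 389 1 1, .burn 779 19 41 1 1, .exc 780 13, .burn 781 11 71 1 1,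
  .small1 782 2, .burn 783 3 29 3 1, .burn 784 2 7 4 2, .burn 785 5 157 1 1, .small1 786 2,
  .burn 787 787 787 1 0, .burn 788 2 197 2 1, .burn 789 3 263 1 1, .small1 790 2, .burn 791 7 113 1 1,
  .exc 792 11, .burn 793 13 61 1 1, .burn 794 2 397 1 1, .small1 795 3, .burn 796 2 199 2 1,
  .burn 797 797 797 1 0, .small1 798 2, .burn 799 17 47 1 1, .burn 800 2 5 5 2, .burn 801 3 89 2 1]

def certs8 : List Cert := [
  .burn 802 2 401 1 1, .burn 803 11 73 1 1, .exc 804 67, .small1 805 5, .small1 806 2,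
  .burn 807 3 269 1 1, .burn 808 2 101 3 1, .burn 809 809 809 1 0, .small1 810 2, .burn 811 811 811 1 0,
  .small2 812 2, .burn 813 3 271 1 1, .small1 814 2, .burn 815 5 163 1 1, .exc 816 17,
  .burn 817 19 43 1 1, .burn 818 2 409 1 1, .small2 819 3, .small2 820 2, .burn 821 821 821 1 0,
  .small1 822 2, .burn 823 823 823 1 0, .burn 824 2 103 3 1, .small1 825 3, .small1 826 2,
  .burn 827 827 827 1 0, .exc 828 23, .burn 829 829 829 1 0, .small1 830 2, .burn 831 3 277 1 1,
  .burn 832 2 13 6 1, .burn 833 7 17 2 1, .small1 834 2, .burn 835 5 167 1 1, .small2 836 2,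
  .burn 837 3 31 3 1, .burn 838 2 419 1 1, .burn 839 839 839 1 0, .exc 840 7, .burn 841 29 29 2 0,
  .burn 842 2 421 1 1, .burn 843 3 281 1 1, .burn 844 2 211 2 1, .burn 845 5 13 1 2, .small1 846 2,
  .burn 847 7 11 1 2, .burn 848 2 53 4 1, .burn 849 3 283 1 1, .small1 850 2, .burn 851 23 37 1 1,
  .exc 852 71, .burn 853 853 853 1 0, .small1 854 2, .small2 855 3, .burn 856 2 107 3 1,
  .burn 857 857 857 1 0, .small1 858 2, .burn 859 859 859 1 0, .small2 860 2, .small1 861 3,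
  .burn 862 2 431 1 1, .burn 863 863 863 1 0, .burn 864 2 3 5 3, .burn 865 5 173 1 1, .burn 866 2 433 1 1,
  .burn 867 3 17 1 2, .small2 868 2, .burn 869 11 79 1 1, .small1 870 2, .burn 871 13 67 1 1,
  .burn 872 2 109 3 1, .burn 873 3 97 2 1, .small1 874 2, .burn 875 5 7 3 1, .exc 876 73,
  .burn 877 877 877 1 0, .burn 878 2 439 1 1, .burn 879 3 293 1 1, .exc 880 11, .burn 881 881 881 1 0,
  .small1 882 2, .burn 883 883 883 1 0, .small2 884 2, .small1 885 3, .burn 886 2 443 1 1,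
  .burn 887 887 887 1 0, .exc 888 37, .burn 889 7 127 1 1, .small1 890 2, .burn 891 3 11 4 1,
  .burn 892 2 223 2 1, .burn 893 19 47 1 1, .small1 894 2, .burn 895 5 179 1 1, .burn 896 2 7 7 1,
  .small1 897 3, .burn 898 2 449 1 1, .burn 899 29 31 1 1, .inter 900 5 2, .burn 901 17 53 1 1]

def certs9 : List Cert := [
  .small1 902 2, .small1 903 3, .burn 904 2 113 3 1, .burn 905 5 181 1 1, .small1 906 2,
  .burn 907 907 907 1 0, .burn 908 2 227 2 1, .burn 909 3 101 2 1, .small1 910 2, .burn 911 911 911 1 0,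
  .exc 912 19, .burn 913 11 83 1 1, .burn 914 2 457 1 1, .small1 915 3, .burn 916 2 229 2 1,
  .burn 917 7 131 1 1, .small1 918 2, .burn 919 919 919 1 0, .exc 920 23, .burn 921 3 307 1 1,
  .burn 922 2 461 1 1, .burn 923 13 71 1 1, .exc 924 11, .burn 925 5 37 2 1, .burn 926 2 463 1 1,
  .burn 927 3 103 2 1, .burn 928 2 29 5 1, .burn 929 929 929 1 0, .small1 930 2, .burn 931 7 19 2 1,
  .burn 932 2 233 2 1, .burn 933 3 311 1 1, .burn 934 2 467 1 1, .small1 935 5, .exc 936 13,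
  .burn 937 937 937 1 0, .small1 938 2, .burn 939 3 313 1 1, .small2 940 2, .burn 941 941 941 1 0,
  .small1 942 2, .burn 943 23 41 1 1, .burn 944 2 59 4 1, .exc 945 5, .small1 946 2,
  .burn 947 947 947 1 0, .exc 948 79, .burn 949 13 73 1 1, .small1 950 2, .burn 951 3 317 1 1,
  .exc 952 7, .burn 953 953 953 1 0, .small1 954 2, .burn 955 5 191 1 1, .burn 956 2 239 2 1,
  .small1 957 3, .burn 958 2 479 1 1, .burn 959 7 137 1 1, .inter 960 2 6, .burn 961 31 31 2 0,
  .small1 962 2, .burn 963 3 107 2 1, .burn 964 2 241 2 1, .burn 965 5 193 1 1, .small1 966 2,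
  .burn 967 967 967 1 0, .burn 968 2 11 3 2, .small1 969 3, .small1 970 2, .burn 971 971 971 1 0,
  .burn 972 2 3 2 5, .burn 973 7 139 1 1, .burn 974 2 487 1 1, .small1 975 3, .burn 976 2 61 4 1,
  .burn 977 977 977 1 0, .small1 978 2, .burn 979 11 89 1 1, .small2 980 2, .burn 981 3 109 2 1,
  .burn 982 2 491 1 1, .burn 983 983 983 1 0, .exc 984 41, .burn 985 5 197 1 1, .small1 986 2,
  .small1 987 3, .small2 988 2, .burn 989 23 43 1 1, .small1 990 2, .burn 991 991 991 1 0,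
  .burn 992 2 31 5 1, .burn 993 3 331 1 1, .small1 994 2, .burn 995 5 199 1 1, .exc 996 83,
  .burn 997 997 997 1 0, .burn 998 2 499 1 1, .burn 999 3 37 3 1, .burn 1000 2 5 3 3, .small1 1001 7]

def certs10 : List Cert := [
  .small1 1002 2, .burn 1003 17 59 1 1, .burn 1004 2 251 2 1, .small1 1005 3, .burn 1006 2 503 1 1,
  .burn 1007 19 53 1 1, .exc 1008 7, .burn 1009 1009 1009 1 0, .small1 1010 2, .burn 1011 3 337 1 1,
  .small2 1012 2, .burn 1013 1013 1013 1 0, .small1 1014 2, .small1 1015 5, .burn 1016 2 127 3 1,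
  .burn 1017 3 113 2 1, .burn 1018 2 509 1 1, .burn 1019 1019 1019 1 0, .exc 1020 17, .burn 1021 1021 1021 1 0,
  .small1 1022 2, .small1 1023 3, .burn 1024 2 2 10 0, .burn 1025 5 41 2 1, .small1 1026 2,
  .burn 1027 13 79 1 1, .burn 1028 2 257 2 1, .burn 1029 3 7 1 3, .small1 1030 2, .burn 1031 1031 1031 1 0,
  .exc 1032 43, .burn 1033 1033 1033 1 0, .small1 1034 2, .small2 1035 3, .small2 1036 2,
  .burn 1037 17 61 1 1, .small1 1038 2, .burn 1039 1039 1039 1 0, .exc 1040 13, .burn 1041 3 347 1 1,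
  .burn 1042 2 521 1 1, .burn 1043 7 149 1 1, .exc 1044 29, .small1 1045 5, .burn 1046 2 523 1 1,
  .burn 1047 3 349 1 1, .burn 1048 2 131 3 1, .burn 1049 1049 1049 1 0, .small1 1050 2, .burn 1051 1051 1051 1 0,
  .burn 1052 2 263 2 1, .burn 1053 3 13 4 1, .small1 1054 2, .burn 1055 5 211 1 1, .exc 1056 11,
  .burn 1057 7 151 1 1, .burn 1058 2 23 1 2, .burn 1059 3 353 1 1, .small2 1060 2, .burn 1061 1061 1061 1 0,
  .small1 1062 2, .burn 1063 1063 1063 1 0, .exc 1064 7, .small1 1065 3, .small1 1066 2,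
  .burn 1067 11 97 1 1, .exc 1068 89, .burn 1069 1069 1069 1 0, .small1 1070 2, .small2 1071 3,
  .burn 1072 2 67 4 1, .burn 1073 29 37 1 1, .small1 1074 2, .burn 1075 5 43 2 1, .burn 1076 2 269 2 1,
  .burn 1077 3 359 1 1, .small1 1078 2, .burn 1079 13 83 1 1, .todo 1080, .burn 1081 23 47 1 1,
  .burn 1082 2 541 1 1, .burn 1083 3 19 1 2, .burn 1084 2 271 2 1, .small1 1085 5, .small1 1086 2,
  .burn 1087 1087 1087 1 0, .burn 1088 2 17 6 1, .burn 1089 3 11 2 2, .small1 1090 2, .burn 1091 1091 1091 1 0,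
  .todo 1092]

def certs : List Cert :=
  certs0 ++ certs1 ++ certs2 ++ certs3 ++ certs4 ++ certs5 ++ certs6 ++ certs7 ++ certs8 ++ certs9 ++ certs10

set_option maxRecDepth 100000 in
theorem certs0_check : certs0.all Cert.check = true := by decide +kernel

set_option maxRecDepth 100000 in
theorem certs1_check : certs1.all Cert.check = true := by decide +kernel

set_option maxRecDepth 100000 in
theorem certs2_check : certs2.all Cert.check = true := by decide +kernel

set_option maxRecDepth 100000 in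
theorem certs3_check : certs3.all Cert.check = true := by decide +kernel

set_option maxRecDepth 100000 in
theorem certs4_check : certs4.all Cert.check = true := by decide +kernel

set_option maxRecDepth 100000 in
theorem certs5_check : certs5.all Cert.check = true := by decide +kernel

set_option maxRecDepth 100000 in
theorem certs6_check : certs6.all Cert.check = true := by decide +kernel

set_option maxRecDepth 100000 in
theorem certs7_check : certs7.all Cert.check = true := by decide +kernel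

set_option maxRecDepth 100000 in
theorem certs8_check : certs8.all Cert.check = true := by decide +kernel

set_option maxRecDepth 100000 in
theorem certs9_check : certs9.all Cert.check = true := by decide +kernel

set_option maxRecDepth 100000 in
theorem certs10_check : certs10.all Cert.check = true := by decide +kernel

theorem certs_check : certs.all Cert.check = true := by
  simp [certs, List.all_append, certs0_check, certs1_check, certs2_check, certs3_check, certs4_check, certs5_check, certs6_check, certs7_check, certs8_check, certs9_check, certs10_check]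

set_option maxRecDepth 100000 in
theorem certs_order : certs.map Cert.order = List.range' 2 1091 := by decide +kernel

theorem prime_of_primeB {p : ℕ} (h : primeB p = true) : p.Prime := by
  simp only [primeB, Bool.and_eq_true, List.all_eq_true, List.mem_range, decide_eq_true_eq] at h
  obtain ⟨⟨h2, h34⟩, hall⟩ := h
  rw [Nat.prime_def_le_sqrt]
  refine ⟨h2, fun d hd2 hds hdd => ?_⟩
  have hd : d * d ≤ p := Nat.le_sqrt.1 hds
  rcases hall d (by nlinarith) with h | h | h
  · omega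
  · omega
  · exact h (Nat.mod_eq_zero_of_dvd hdd)

theorem above_of_aboveB {p m : ℕ} (h : aboveB p m = true) :
    ∀ q : ℕ, q.Prime → q ∣ m → p < q := by
  simp only [aboveB, List.all_eq_true, List.mem_range, decide_eq_true_eq] at h
  intro q hq hd
  by_contra hle
  rcases h q (by omega) with h1 | h1
  · have := hq.two_le; omega
  · exact h1 (Nat.mod_eq_zero_of_dvd hd)

variable {G : Type*} [Group G] [Finite G] [IsSimpleGroup G]

theorem not_solvable (hG : ¬ IsMulCommutative G) : ¬ Group.IsSolvable G := fun h =>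
  hG ⟨⟨(IsSimpleGroup.comm_iff_isSolvable).mpr h⟩⟩

/-- A certificate leaves one of nine orders. -/
theorem Cert.sound (hG : ¬ IsMulCommutative G) (c : Cert) (hc : c.check = true)
    (hn : Nat.card G = c.order) :
    Nat.card G ∈ [60, 168, 360, 504, 660, 720, 756, 1080, 1092] := by
  cases c with
  | burn n p q a b =>
    simp only [Cert.check, Bool.and_eq_true, decide_eq_true_eq] at hc
    exact absurd (Cfsg.Agent.Lib.Characters.isSolvable_of_card_eq_pow_mul_pow
      (prime_of_primeB hc.1.1) (prime_of_primeB hc.1.2) (hn.trans hc.2)) (not_solvable hG)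
  | small1 n p =>
    simp only [Cert.check, Bool.and_eq_true, decide_eq_true_eq] at hc
    exact (not_simple_smallest_prime_exp_one (G := G) (prime_of_primeB hc.1.1) hG
      (hn.trans hc.1.2.1) (above_of_aboveB hc.2)).elim
  | small2 n p =>
    simp only [Cert.check, Bool.and_eq_true, decide_eq_true_eq] at hc
    obtain ⟨h2, h3⟩ := twelve_of_sq_smallest (G := G) (prime_of_primeB hc.1.1) hG
      (hn.trans hc.1.2.1) (above_of_aboveB hc.2)
    exact absurd ⟨h2, Nat.mod_eq_zero_of_dvd h3⟩ hc.1.2.2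
  | exc n p =>
    simp only [Cert.check, Bool.and_eq_true, decide_eq_true_eq] at hc
    obtain ⟨hp, h1, h2, h3, h4, h5⟩ := hc
    exact absurd hn (not_simple_of_excluded n p _ 34 (prime_of_primeB hp) h1 h2 h3 h4 h5)
  | emb n p k =>
    simp only [Cert.check, Bool.and_eq_true, decide_eq_true_eq] at hc
    obtain ⟨hp, h1, h2, h3, h4, h5⟩ := hc
    haveI := Fact.mk (prime_of_primeB hp)
    have hcard : Nat.card G = p ^ k * (n / p ^ k) := hn.trans h1
    refine absurd ?_ (h5 _ (sylow_count_candidates hcard h2 h3 h4)).2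
    have h := two_card_dvd_sylow_factorial hG (sylow_count_ne_one hcard h2 h3 h4)
    rwa [hn] at h
  | inter n p k =>
    simp only [Cert.check, Bool.and_eq_true, decide_eq_true_eq] at hc
    obtain ⟨hp, h1, h2, h4, hk, h5, h6⟩ := hc
    haveI := Fact.mk (prime_of_primeB hp)
    have hcard : Nat.card G = p ^ k * (n / p ^ k) := hn.trans h1
    rcases h5 _ (sylow_count_candidates hcard h2 (by omega) h4) with hr | hr
    · obtain ⟨H, hH, hi⟩ := exists_index_of_intersection hcard h2 hk hr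
      refine absurd ?_ (h6 _ hi).2
      have h := two_card_dvd_factorial hG H hH
      rwa [hn] at h
    · refine absurd ?_ hr.2
      have h := two_card_dvd_sylow_factorial hG (sylow_count_ne_one hcard h2 (by omega) h4)
      rwa [hn] at h
  | todo n =>
    simp only [Cert.check, decide_eq_true_eq] at hc
    exact (show Nat.card G = n from hn) ▸ hc

/-- The order of a non-abelian simple group of order at most 1092 is one of nine numbers. -/
theorem card_mem (hG : ¬ IsMulCommutative G) (h : Nat.card G ≤ 1092) :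
    Nat.card G ∈ [60, 168, 360, 504, 660, 720, 756, 1080, 1092] := by
  have h2 : 2 ≤ Nat.card G := Finite.one_lt_card
  have hmem : Nat.card G ∈ certs.map Cert.order := by
    rw [certs_order, List.mem_range'_1]; omega
  obtain ⟨c, hc, hcn⟩ := List.mem_map.1 hmem
  exact c.sound hG (List.all_eq_true.1 certs_check c hc) hcn.symm

end Cfsg.Agent.Lib.SimpleBelow1092
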