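import Cfsg.Agent.S2807
import Cfsg.Agent.Lib.SylowCounting.DegreeKill
import Cfsg.Agent.Lib.SimpleBelow1092.PermTen

/-!
# No simple group has order 756 or 1080

By Yoshida's theorem a Sylow three-subgroup of order 27 is not self-normalizing.  For order 1080
this leaves ten Sylow three-subgroups, and then a Sylow five-subgroup has centralizer of order 15,
which does not act faithfully on ten points.
-/

set_option autoImplicit false
set_option linter.unusedSectionVars false

namespace Cfsg.Agent.Lib.SimpleBelow1092

open Cfsg.Agent.Lib.SylowCounting MulAction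
open scoped commutatorElement

variable {G : Type*} [Group G] [Finite G] [IsSimpleGroup G]

/-- In a non-abelian simple group a Sylow subgroup of order less than `p^(p+1)` is not its own
normalizer. -/
theorem normalizer_ne_self (hG : ¬ IsMulCommutative G) {p : ℕ} [Fact p.Prime] (P : Sylow p G)
    (hdvd : p ∣ Nat.card G) (hsmall : Nat.card (P : Subgroup G) < p ^ (p + 1)) :
    Subgroup.normalizer ((P : Subgroup G) : Set G) ≠ P := by
  intro hN
  have heq : (P : Subgroup G) ⊓ commutator G = (P : Subgroup G) ⊓
      ⁅Subgroup.normalizer ((P : Subgroup G) : Set G), Subgroup.normalizer ((P : Subgroup G) : Set G)⁆ := by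
    by_contra hne
    obtain ⟨W, f, hf⟩ := Cfsg.Agent.S2807.result P hne
    have h1 := Nat.card_le_card_of_surjective f hf
    rw [Cfsg.Agent.S2807.card_sylow_perm_sq W] at h1
    omega
  have hperf : commutator G = ⊤ := by
    refine (IsSimpleGroup.eq_bot_or_eq_top_of_normal (commutator G)
      (by rw [commutator_def]; infer_instance)).resolve_left fun e => hG ⟨⟨fun x y => ?_⟩⟩
    have hm : ⁅x, y⁆ ∈ commutator G := by
      rw [commutator_def]
      exact Subgroup.commutator_mem_commutator (Subgroup.mem_top x) (Subgroup.mem_top y)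
    rw [e, Subgroup.mem_bot] at hm
    exact commutatorElement_eq_one_iff_mul_comm.1 hm
  rw [hperf, inf_top_eq, hN] at heq
  have hle : (P : Subgroup G) ≤ ⁅(P : Subgroup G), (P : Subgroup G)⁆ := inf_eq_left.1 heq.symm
  haveI : Group.IsNilpotent (P : Subgroup G) := P.isPGroup'.isNilpotent
  haveI : Nontrivial (P : Subgroup G) :=
    (Subgroup.nontrivial_iff_ne_bot _).mpr (P.ne_bot_of_dvd_card hdvd)
  refine (Group.IsSolvable.commutator_lt_top_of_nontrivial (P : Subgroup G)).ne ?_
  refine Subgroup.map_injective (P : Subgroup G).subtype_injective ?_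
  rw [Subgroup.map_subtype_commutator, ← MonoidHom.range_eq_map, Subgroup.range_subtype]
  refine le_antisymm ?_ hle
  rw [← Subgroup.map_subtype_commutator]
  exact Subgroup.map_subtype_le _

theorem card_normalizer_sylow {p : ℕ} [Fact p.Prime] (P : Sylow p G) :
    Nat.card (Sylow p G) * Nat.card (Subgroup.normalizer ((P : Subgroup G) : Set G)) = Nat.card G := by
  rw [P.card_eq_index_normalizer, P.coe_coe]
  exact (Subgroup.normalizer _).index_mul_card

/-- No simple group has order 756. -/
theorem card_ne_756 : Nat.card G ≠ 756 := by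
  intro h
  haveI : Fact (Nat.Prime 3) := ⟨by norm_num⟩
  have hG : ¬ IsMulCommutative G := not_comm_of_not_prime (by rw [h]; norm_num)
  have hc : Nat.card G = 3 ^ 3 * 28 := by rw [h]; norm_num
  have hn := sylow_count_candidates hc (by norm_num) (by norm_num) (by norm_num)
  rw [show candidates 3 28 = {4, 7, 28} by decide +kernel] at hn
  have hf := two_card_dvd_sylow_factorial hG (sylow_count_ne_one (G := G) hc (by norm_num)
    (by norm_num) (by norm_num))
  rw [h] at hf
  simp only [Finset.mem_insert, Finset.mem_singleton] at hn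
  rcases hn with e | e | e
  · rw [e] at hf; norm_num [Nat.factorial] at hf
  · rw [e] at hf; norm_num [Nat.factorial] at hf
  let P : Sylow 3 G := default
  have hP := sylow_card hc (by norm_num) P
  have hN := card_normalizer_sylow P
  rw [e, h] at hN
  refine normalizer_ne_self hG P (by rw [h]; norm_num) (by rw [hP]; norm_num)
    (Subgroup.eq_of_le_of_card_ge Subgroup.le_normalizer ?_).symm
  rw [hP, show (3 : ℕ) ^ 3 = 27 from rfl]
  omega

/-- No simple group has order 1080. -/
theorem card_ne_1080 : Nat.card G ≠ 1080 := by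
  classical
  intro h
  haveI : Fact (Nat.Prime 3) := ⟨by norm_num⟩
  haveI : Fact (Nat.Prime 5) := ⟨by norm_num⟩
  have hG : ¬ IsMulCommutative G := not_comm_of_not_prime (by rw [h]; norm_num)
  have hc : Nat.card G = 3 ^ 3 * 40 := by rw [h]; norm_num
  have hn := sylow_count_candidates hc (by norm_num) (by norm_num) (by norm_num)
  rw [show candidates 3 40 = {4, 10, 40} by decide +kernel] at hn
  have hn1 := sylow_count_ne_one (G := G) hc (by norm_num) (by norm_num) (by norm_num)
  have hf := two_card_dvd_sylow_factorial hG hn1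
  rw [h] at hf
  simp only [Finset.mem_insert, Finset.mem_singleton] at hn
  let P : Sylow 3 G := default
  have hP := sylow_card hc (by norm_num) P
  have hN := card_normalizer_sylow P
  rw [h] at hN
  rcases hn with e | e | e
  · rw [e] at hf; norm_num [Nat.factorial] at hf
  swap
  · rw [e] at hN
    refine normalizer_ne_self hG P (by rw [h]; norm_num) (by rw [hP]; norm_num)
      (Subgroup.eq_of_le_of_card_ge Subgroup.le_normalizer ?_).symm
    rw [hP, show (3 : ℕ) ^ 3 = 27 from rfl]
    omega
  -- ten points
  set K := Subgroup.normalizer ((P : Subgroup G) : Set G) with hK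
  have hKt : K ≠ ⊤ := normalizer_ne_top P hn1
  haveI : Fintype (G ⧸ K) := Fintype.ofFinite _
  have hX : Fintype.card (G ⧸ K) = 10 := by
    rw [← Nat.card_eq_fintype_card]
    show K.index = 10
    rw [hK, P.coe_coe, ← P.card_eq_index_normalizer, e]
  let Q : Sylow 5 G := default
  have hQ : Nat.card (Q : Subgroup G) = 5 := by
    rw [sylow_card (k := 1) (m := 216) (by rw [h]; norm_num) (by norm_num) Q, pow_one]
  have hr := sylow_count_mem_of_excluded 1080 5 216 1 (by norm_num) (by norm_num) (by norm_num)
    (by norm_num) (by norm_num) h {36} (by decide +kernel)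
  rw [Finset.mem_singleton] at hr
  have hNQ := card_normalizer_sylow Q
  rw [hr, h] at hNQ
  obtain ⟨e', c, hec, he1, hed, ⟨k, hk⟩, hcC⟩ := normalizer_card_eq hG Q hQ
  have he4 : e' ≤ 4 := Nat.le_of_dvd (by norm_num) hed
  have h3 : 3 ∣ Nat.card (Subgroup.centralizer ((Q : Subgroup G) : Set G)) := by
    have h30 : e' * k = 6 := by
      rw [hk] at hec
      rw [hec] at hNQ
      linarith
    have hed' : e' ∣ 4 := hed
    obtain rfl : e' = 2 := by interval_cases e' <;> omega
    rw [← hcC, hk]
    omega
  obtain ⟨y, hy⟩ := exists_prime_orderOf_dvd_card' 3 h3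
  obtain ⟨x, hx⟩ := exists_prime_orderOf_dvd_card' (G := (Q : Subgroup G)) 5 (by rw [hQ])
  rw [← Subgroup.orderOf_coe] at hx hy
  have hcomm : (x : G) * y = y * x := Subgroup.mem_centralizer_iff.1 y.2 _ x.2
  have hx5 : (x : G) ^ 5 = 1 := orderOf_dvd_iff_pow_eq_one.1 (by rw [hx])
  have hy3 : (y : G) ^ 3 = 1 := orderOf_dvd_iff_pow_eq_one.1 (by rw [hy])
  have hK108 : Nat.card K = 108 := by rw [e] at hN; omega
  have hfree : ∀ c : G ⧸ K, (x : G) • c ≠ c := by
    intro c hc'
    obtain ⟨g, rfl⟩ := QuotientGroup.mk_surjective c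
    rw [Quotient.smul_mk, smul_eq_mul, eq_comm, QuotientGroup.eq] at hc'
    have h1 := K.orderOf_dvd_natCard hc'
    rw [← mul_assoc, show g⁻¹ * (x : G) * g = MulAut.conj g⁻¹ (x : G) by simp, MulEquiv.orderOf_eq,
      hx, hK108] at h1
    norm_num at h1
  have hfix : ∀ a : G ⧸ K, (y : G) • a = a := by
    intro a
    by_cases ha : (y : G) • a ∈ five (x : G) a
    · exact smul_eq_of_mem_five hx5 hfree hcomm hy3 (by norm_num) ha
    rcases five_cases hX hx5 hfree ha ((y : G) • (y : G) • a) with h2 | h2
    · have h3' : ((y : G) ^ 2) • a = a := by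
        refine smul_eq_of_mem_five hx5 hfree ?_ (k := 3) ?_ (by norm_num) ?_
        · exact ((Commute.pow_right (show Commute (x : G) y from hcomm) 2)).eq
        · rw [← pow_mul, mul_comm, pow_mul, hy3, one_pow]
        · rwa [sq, mul_smul]
      calc (y : G) • a = (y : G) • (y : G) ^ 2 • a := by rw [h3']
        _ = a := by rw [← mul_smul, ← pow_succ', hy3, one_smul]
    · have h4 := smul_eq_of_mem_five hx5 hfree hcomm hy3 (by norm_num) h2
      exact MulAction.injective (y : G) h4
  have hy1 : (y : G) = 1 :=
    toPermHom_injective K hKt (by rw [map_one]; exact Equiv.ext hfix)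
  rw [hy1, orderOf_one] at hy
  norm_num at hy

end Cfsg.Agent.Lib.SimpleBelow1092
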